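import Groth.Prelude.Def_EtDlF
import Mathlib.AlgebraicGeometry.IdealSheaf.Subscheme
import Mathlib.AlgebraicGeometry.Morphisms.Proper
import Mathlib.AlgebraicGeometry.Morphisms.Smooth

/-!
# S3733, geometric part: shared definitions (helper494, format of helper157)

`pbar : P ⟶ S` (in the application `S = Spec k`), `i : Y ⟶ P`, `j : X ⟶ P`.

* `PT pbar T = T ×_S P`, `PTmap pbar g`, `yinc pbar i T : Y_T ⟶ P_T`.
* `graph σ : T ⟶ P_T` for `σ : T ⟶ X` over `S` (`XS pbar j` is `X` over `S`).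
* `IsEqn σ O A`: for a finite family `σ a : T ⟶ X`, `A ∈ Γ(P_T, O)` generates the product of the ideals of the
  graphs on the open set `O`, i.e. `A` is an equation of the divisor `∑ σ a`.
* `RelDatum i σ τ`: relation datum: an open cover `O_a` of `P_T`, equations `A_a` of `∑ σ`, `B_a` of `∑ τ`, such
  that `A_a B_b = A_b B_a` and `A_a = B_a` on `Y_T` (so `h = A_a / B_a` has divisor `∑ σ - ∑ τ`, `h = 1` on `Y_T`).
* `Cocycle pbar i T`: open cover `V_a` of `P_T` and `u_{ab} ∈ Γ(V_a ∩ V_b)ˣ`, `= 1` on `Y_T`; `Cocycle.pull`.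
* `Cocycle.Triv c σ τ`: the same as `RelDatum` with `A_a B_b = u_{ab} A_b B_a`, for a cover refining that of `c`.
* `GenStmt`, `PencilStmt`: the two geometric statements.
-/

universe u

open CategoryTheory CategoryTheory.Limits AlgebraicGeometry Opposite

noncomputable section

namespace Groth.Agent.Etdl.H494

variable {S P Y X : Scheme.{u}} (pbar : P ⟶ S) (i : Y ⟶ P) (j : X ⟶ P)

/-- Restriction of functions. -/
abbrev res {Z : Scheme.{u}} {W V : Z.Opens} (h : W ≤ V) : Γ(Z, V) →+* Γ(Z, W) :=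
  (Z.presheaf.map (homOfLE h).op).hom

/-- `P_T = T ×_S P`. -/
abbrev PT (T : Over S) : Scheme.{u} := pullback T.hom pbar

/-- `P_{T'} ⟶ P_T`. -/
abbrev PTmap {T T' : Over S} (g : T' ⟶ T) : PT pbar T' ⟶ PT pbar T :=
  ((Over.pullback pbar).map g).left

/-- `Y_T ⟶ P_T`. -/
abbrev yinc (T : Over S) : pullback (pullback.snd T.hom pbar) i ⟶ PT pbar T :=
  pullback.fst (pullback.snd T.hom pbar) i

/-- `X` as a scheme over `S`. -/
abbrev XS : Over S := Over.mk (j ≫ pbar)

/-- An open cover of `P_T` with a cocycle of units which are `1` on `Y_T`. -/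
structure Cocycle (T : Over S) where
  /-- index set -/
  A : Type u
  /-- the open cover -/
  V : A → (PT pbar T).Opens
  cover : ∀ x : PT pbar T, ∃ a, x ∈ V a
  /-- the cocycle -/
  u : ∀ a b, Γ(PT pbar T, V a ⊓ V b)
  isUnit : ∀ a b, IsUnit (u a b)
  one : ∀ a b, ((yinc pbar i T).app (V a ⊓ V b)).hom (u a b) = 1
  cocycle : ∀ (a b c : A) (W : (PT pbar T).Opens) (ha : W ≤ V a) (hb : W ≤ V b) (hc : W ≤ V c),
    res (le_inf ha hb) (u a b) * res (le_inf hb hc) (u b c) = res (le_inf ha hc) (u a c)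

variable {pbar i j}

/-- The graph `T ⟶ P_T` of `σ : T ⟶ X` over `S`. -/
def graph {T : Over S} (σ : T ⟶ XS pbar j) : T.left ⟶ PT pbar T :=
  pullback.lift (𝟙 T.left) (σ.left ≫ j) (by simpa using (Over.w σ).symm)

@[reassoc (attr := simp)]
theorem graph_fst {T : Over S} (σ : T ⟶ XS pbar j) : graph σ ≫ pullback.fst T.hom pbar = 𝟙 _ :=
  pullback.lift_fst _ _ _

@[reassoc (attr := simp)]
theorem graph_snd {T : Over S} (σ : T ⟶ XS pbar j) : graph σ ≫ pullback.snd T.hom pbar = σ.left ≫ j :=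
  pullback.lift_snd _ _ _

instance [IsSeparated pbar] {T : Over S} (σ : T ⟶ XS pbar j) : IsClosedImmersion (graph σ) := by
  have : IsClosedImmersion (graph σ ≫ pullback.fst T.hom pbar) := by
    rw [graph_fst]; infer_instance
  exact IsClosedImmersion.of_comp _ (pullback.fst T.hom pbar)

/-- `A` is an equation of the divisor `∑ σ a` on the open set `O` of `P_T`: it generates the product of the
ideals of the graphs on every affine open subset of `O`. -/
def IsEqn {T : Over S} {m : ℕ} (σ : Fin m → (T ⟶ XS pbar j)) (O : (PT pbar T).Opens)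
    (A : Γ(PT pbar T, O)) : Prop :=
  ∀ (U : (PT pbar T).affineOpens) (hU : U.1 ≤ O),
    ∏ a, RingHom.ker ((graph (σ a)).app U.1).hom = Ideal.span {res hU A}

variable (i) in
/-- Relation datum: an open cover of `P_T`, equations `A a` of `∑ σ`, `B a` of `∑ τ`, with
`A a * B b = A b * B a` and `A a = B a` on `Y_T`. -/
def RelDatum {T : Over S} {m n : ℕ} (σ : Fin m → (T ⟶ XS pbar j)) (τ : Fin n → (T ⟶ XS pbar j)) : Prop :=
  ∃ (ι : Type u) (O : ι → (PT pbar T).Opens) (A B : ∀ a, Γ(PT pbar T, O a)),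
    (∀ x : PT pbar T, ∃ a, x ∈ O a) ∧ (∀ a, IsEqn σ (O a) (A a)) ∧ (∀ a, IsEqn τ (O a) (B a)) ∧
    (∀ (a b : ι) (W : (PT pbar T).Opens) (ha : W ≤ O a) (hb : W ≤ O b),
      res ha (A a) * res hb (B b) = res hb (A b) * res ha (B a)) ∧
    ∀ a, ((yinc pbar i T).app (O a)).hom (A a) = ((yinc pbar i T).app (O a)).hom (B a)

/-- The torsor of the cocycle `c` is `O(∑ σ - ∑ τ)` up to sign: as `RelDatum`, for an open cover refining the
one of `c`, with `A a * B b = u a b * A b * B a`. -/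
def Cocycle.Triv {T : Over S} (c : Cocycle pbar i T) {m n : ℕ}
    (σ : Fin m → (T ⟶ XS pbar j)) (τ : Fin n → (T ⟶ XS pbar j)) : Prop :=
  ∃ (ι : Type u) (O : ι → (PT pbar T).Opens) (r : ι → c.A) (hr : ∀ a, O a ≤ c.V (r a))
    (A B : ∀ a, Γ(PT pbar T, O a)),
    (∀ x : PT pbar T, ∃ a, x ∈ O a) ∧ (∀ a, IsEqn σ (O a) (A a)) ∧ (∀ a, IsEqn τ (O a) (B a)) ∧
    (∀ (a b : ι) (W : (PT pbar T).Opens) (ha : W ≤ O a) (hb : W ≤ O b),
      res ha (A a) * res hb (B b) =
        res (le_inf (ha.trans (hr a)) (hb.trans (hr b))) (c.u (r a) (r b)) * (res hb (A b) * res ha (B a))) ∧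
    ∀ a, ((yinc pbar i T).app (O a)).hom (A a) = ((yinc pbar i T).app (O a)).hom (B a)

theorem app_app_apply {A B C : Scheme.{u}} (f : A ⟶ B) (g : B ⟶ C) (V : C.Opens) (u : Γ(C, V)) :
    (f.app (g ⁻¹ᵁ V)).hom ((g.app V).hom u) = ((f ≫ g).app V).hom u := by
  rw [Scheme.Hom.comp_app]
  rfl

theorem app_eq_congr {A B : Scheme.{u}} {f g : A ⟶ B} (e : f = g) (V : B.Opens) (u v : Γ(B, V))
    (h : (f.app V).hom u = (f.app V).hom v) : (g.app V).hom u = (g.app V).hom v := by
  subst e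
  exact h

variable (pbar) in
@[reassoc (attr := simp)]
theorem PTmap_snd {T T' : Over S} (g : T' ⟶ T) :
    PTmap pbar g ≫ pullback.snd T.hom pbar = pullback.snd T'.hom pbar :=
  Over.w ((Over.pullback pbar).map g)

variable (pbar) in
@[reassoc (attr := simp)]
theorem PTmap_fst {T T' : Over S} (g : T' ⟶ T) :
    PTmap pbar g ≫ pullback.fst T.hom pbar = pullback.fst T'.hom pbar ≫ g.left :=
  pullback.lift_fst _ _ _

variable (i) in
/-- Agreement on `Y_T` is stable under base change. -/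
theorem yinc_pull {T T' : Over S} (g : T' ⟶ T) {V : (PT pbar T).Opens} {u v : Γ(PT pbar T, V)}
    (h : ((yinc pbar i T).app V).hom u = ((yinc pbar i T).app V).hom v) :
    ((yinc pbar i T').app (PTmap pbar g ⁻¹ᵁ V)).hom (((PTmap pbar g).app V).hom u) =
      ((yinc pbar i T').app (PTmap pbar g ⁻¹ᵁ V)).hom (((PTmap pbar g).app V).hom v) := by
  let r : pullback (pullback.snd T'.hom pbar) i ⟶ pullback (pullback.snd T.hom pbar) i :=
    pullback.map _ _ _ _ (PTmap pbar g) (𝟙 _) (𝟙 _) (by rw [Category.comp_id, PTmap_snd]) (by simp)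
  have e : yinc pbar i T' ≫ PTmap pbar g = r ≫ yinc pbar i T := (pullback.lift_fst _ _ _).symm
  have h2 : ((r ≫ yinc pbar i T).app V).hom u = ((r ≫ yinc pbar i T).app V).hom v := by
    rw [← app_app_apply, h, app_app_apply]
  rw [app_app_apply, app_app_apply]
  exact app_eq_congr e.symm _ _ _ h2

/-- Pull-back of a cocycle. -/
def Cocycle.pull {T T' : Over S} (c : Cocycle pbar i T) (g : T' ⟶ T) : Cocycle pbar i T' where
  A := c.A
  V a := PTmap pbar g ⁻¹ᵁ c.V a
  cover x := c.cover (PTmap pbar g x)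
  u a b := ((PTmap pbar g).app (c.V a ⊓ c.V b)).hom (c.u a b)
  isUnit a b := (c.isUnit a b).map _
  one a b := by
    have h := yinc_pull i g (V := c.V a ⊓ c.V b) (u := c.u a b) (v := 1) (by rw [c.one, map_one])
    rw [map_one, map_one] at h
    exact h
  cocycle a b d W ha hb hd := by
    have key := congr(((PTmap pbar g).app (c.V a ⊓ (c.V b ⊓ c.V d))).hom
      $(c.cocycle a b d (c.V a ⊓ (c.V b ⊓ c.V d)) inf_le_left (inf_le_right.trans inf_le_left)
        (inf_le_right.trans inf_le_right)))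
    have key2 := congr(res (Z := PT pbar T') (W := W) (V := PTmap pbar g ⁻¹ᵁ (c.V a ⊓ (c.V b ⊓ c.V d)))
      (le_inf ha (le_inf hb hd)) $key)
    simp only [map_mul, res] at key2
    simp only [← CommRingCat.hom_comp, ← RingHom.comp_apply, Scheme.Hom.naturality,
      Category.assoc, ← Functor.map_comp] at key2
    exact key2

variable (pbar i j) in
/-- GEN: the class of every cocycle is, locally for the fppf topology, a difference of sums of sections. -/
def GenStmt : Prop :=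
  ∀ (T : Over S) (c : Cocycle pbar i T) (t : T.left), ∃ (T' : Over S) (g : T' ⟶ T),
    Flat g.left ∧ LocallyOfFinitePresentation g.left ∧ t ∈ Set.range g.left ∧
    ∃ (m n : ℕ) (σ : Fin m → (T' ⟶ XS pbar j)) (τ : Fin n → (T' ⟶ XS pbar j)), (c.pull g).Triv σ τ

variable (pbar i j) in
/-- PENCIL: a relation datum over `Spec Ω` is deformed to the trivial one. -/
def PencilStmt : Prop :=
  ∀ (Ω : Type u) [Field Ω] [IsAlgClosed Ω] (x : Spec (CommRingCat.of Ω) ⟶ S) (m n : ℕ)
    (σ : Fin m → (Over.mk x ⟶ XS pbar j)) (τ : Fin n → (Over.mk x ⟶ XS pbar j)), RelDatum i σ τ →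
    ∃ (U : Over S) (q : U ⟶ Over.mk x) (ρ : Fin m → (U ⟶ XS pbar j)),
      RelDatum i ρ (fun b => q ≫ τ b) ∧
      (∃ p : Over.mk x ⟶ U, p ≫ q = 𝟙 _ ∧ ∃ e : Equiv.Perm (Fin m), ∀ a, p ≫ ρ (e a) = σ a) ∧
      ∀ C : Set U.left, IsClopen C → C.Nonempty →
        ∃ p : Over.mk x ⟶ U, p ≫ q = 𝟙 _ ∧ Set.range p.left ⊆ C ∧ ∃ e : Fin m ≃ Fin n, ∀ a, p ≫ ρ a = τ (e a)

end Groth.Agent.Etdl.H494

end
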