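import Groth.Agent.Etdl.H432.IQ
import Groth.Agent.Etrest.Eff
import Mathlib.AlgebraicGeometry.AlgClosed.Basic

/-!
# `R^1 pbar_* F` as the cokernel of `pbar_* I ⟶ pbar_* Q`
-/

set_option autoImplicit false
universe u
open CategoryTheory CategoryTheory.Limits AlgebraicGeometry Opposite

noncomputable section

namespace Groth.Agent.Etdl.H494.Gamma

open Groth.Agent.Etdl.H432.Sec Groth.Agent.Etdl.H432.Un Groth.Agent.Etdl.H432.IQ

section Exact

variable {S : Scheme.{u}} {A B C : EtFppf.AbF S}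

/-- Local lifting along an exact sequence. -/
theorem exists_lift_exact {f : A ⟶ B} {g : B ⟶ C} (w : f ≫ g = 0) (hS : (ShortComplex.mk f g w).Exact)
    {T : Over S} (b : Γs B T) (hb : m g T b = 0) (t : T.left) :
    ∃ (T1 : Over S) (k : T1 ⟶ T) (a : Γs A T1), Flat k.left ∧ LocallyOfFinitePresentation k.left ∧
      t ∈ Set.range k.left ∧ m f T1 a = r B k b := by
  have h1 : Epi (kernel.lift g f w) := (ShortComplex.exact_iff_epi_kernel_lift (ShortComplex.mk f g w)).1 hS
  obtain ⟨c, hc⟩ := exists_of_exact (f := kernel.ι g) (g := g) (kernel.condition g)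
    (ShortComplex.exact_kernel g) b hb
  obtain ⟨T1, k, a, h2, h3, h4, ha⟩ := exists_lift (kernel.lift g f w) c t
  refine ⟨T1, k, a, h2, h3, h4, ?_⟩
  have h5 := congrArg (m (kernel.ι g) T1) ha
  rw [← m_comp, kernel.lift_ι, m_r, hc] at h5
  exact h5

end Exact

variable {S P Y : Scheme.{u}} (pbar : P ⟶ S) (i : Y ⟶ P)

/-- The sheaf `R^1 pbar_* G_m(m)`. -/
abbrev Jc : EtFppf.AbF S := (EtFppf.RpushBig pbar 1).obj (F i)

theorem exists_gamma : ∃ (γ : (EtFppf.pushBig pbar).obj (Q i) ⟶ Jc pbar i) (w : (EtFppf.pushBig pbar).map (β i) ≫ γ = 0),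
    Epi γ ∧ (ShortComplex.mk ((EtFppf.pushBig pbar).map (β i)) γ w).Exact := by
  have hz : IsZero ((EtFppf.RpushBig pbar 1).obj (I i)) :=
    Functor.isZero_rightDerived_obj_injective_succ _ 0 (I i)
  obtain ⟨e⟩ := Groth.Agent.Etrest.Eff.nonempty_iso_cokernel (EtFppf.pushBig pbar) (shortExact i) hz
  let f := (EtFppf.pushBig pbar).map (β i)
  have h0 : f ≫ cokernel.π f ≫ e.inv = 0 := by
    rw [cokernel.condition_assoc, zero_comp]
  refine ⟨cokernel.π f ≫ e.inv, h0, epi_comp _ _, ?_⟩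
  refine ShortComplex.exact_of_iso ?_ (ShortComplex.exact_cokernel f)
  exact ShortComplex.isoMk (Iso.refl _) (Iso.refl _) e.symm (by simp [f]) (by simp [f])

/-- The boundary map. -/
def γ : (EtFppf.pushBig pbar).obj (Q i) ⟶ Jc pbar i := (exists_gamma pbar i).choose

theorem map_β_γ : (EtFppf.pushBig pbar).map (β i) ≫ γ pbar i = 0 := (exists_gamma pbar i).choose_spec.choose

instance : Epi (γ pbar i) := (exists_gamma pbar i).choose_spec.choose_spec.1

theorem exact_γ : (ShortComplex.mk ((EtFppf.pushBig pbar).map (β i)) (γ pbar i) (map_β_γ pbar i)).Exact :=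
  (exists_gamma pbar i).choose_spec.choose_spec.2

/-- `P_T` over `P`. -/
abbrev PO (T : Over S) : Over P := (Over.pullback pbar).obj T

/-- `P_T' ⟶ P_T` over `P`. -/
abbrev POm {T T' : Over S} (g : T' ⟶ T) : PO pbar T' ⟶ PO pbar T := (Over.pullback pbar).map g

theorem POm_id (T : Over S) : POm pbar (𝟙 T) = 𝟙 _ := (Over.pullback pbar).map_id T

theorem POm_comp {T T' T'' : Over S} (g : T' ⟶ T) (h : T'' ⟶ T') : POm pbar (h ≫ g) = POm pbar h ≫ POm pbar g :=
  (Over.pullback pbar).map_comp h g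

variable {i}

/-- The class in `J(T)` of a section of `Q` over `P_T`. -/
def cl {T : Over S} : Γs (Q i) (PO pbar T) →+ Γs (Jc pbar i) T := m (γ pbar i) T

variable {pbar}

theorem cl_r {T T' : Over S} (g : T' ⟶ T) (q : Γs (Q i) (PO pbar T)) :
    cl pbar (r (Q i) (POm pbar g) q) = r (Jc pbar i) g (cl pbar q) := m_r (γ pbar i) g q

theorem cl_β {T : Over S} (b : Γs (I i) (PO pbar T)) : cl pbar (m (β i) _ b) = 0 := by
  have h := m_comp ((EtFppf.pushBig pbar).map (β i)) (γ pbar i) T b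
  rw [map_β_γ] at h
  exact h.symm

theorem exists_cl {T : Over S} (ξ : Γs (Jc pbar i) T) (t : T.left) :
    ∃ (T1 : Over S) (g : T1 ⟶ T) (q : Γs (Q i) (PO pbar T1)), Flat g.left ∧ LocallyOfFinitePresentation g.left ∧
      t ∈ Set.range g.left ∧ cl pbar q = r (Jc pbar i) g ξ :=
  exists_lift (γ pbar i) ξ t

theorem exists_of_cl_eq_zero {T : Over S} (q : Γs (Q i) (PO pbar T)) (hq : cl pbar q = 0) (t : T.left) :
    ∃ (T1 : Over S) (g : T1 ⟶ T) (b : Γs (I i) (PO pbar T1)), Flat g.left ∧ LocallyOfFinitePresentation g.left ∧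
      t ∈ Set.range g.left ∧ m (β i) _ b = r (Q i) (POm pbar g) q :=
  exists_lift_exact (map_β_γ pbar i) (exact_γ pbar i) (T := T) q hq t

/-- A nonempty scheme locally of finite type over an algebraically closed field has a rational point. -/
theorem exists_section {Ω : Type u} [Field Ω] [IsAlgClosed Ω] {Y : Scheme.{u}} (f : Y ⟶ Spec (CommRingCat.of Ω))
    [LocallyOfFiniteType f] [Nonempty Y] : ∃ s : Spec (CommRingCat.of Ω) ⟶ Y, s ≫ f = 𝟙 _ := by
  have hJ : JacobsonSpace Y := LocallyOfFiniteType.jacobsonSpace f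
  have h1 : closure ((Set.univ : Set Y) ∩ closedPoints Y) = Set.univ :=
    JacobsonSpace.closure_inter_closedPoints isClosed_univ
  have h2 : (closedPoints Y).Nonempty := by
    by_contra h
    rw [Set.not_nonempty_iff_eq_empty] at h
    rw [h, Set.inter_empty, closure_empty] at h1
    exact Set.empty_ne_univ h1
  obtain ⟨x, hx⟩ := h2
  exact ⟨pointOfClosedPoint f x hx, pointOfClosedPoint_comp f x hx⟩

/-- Over an algebraically closed field the sequence of sections is exact. -/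
theorem exists_of_cl_eq_zero_pt {Ω : Type u} [Field Ω] [IsAlgClosed Ω] {x : Spec (CommRingCat.of Ω) ⟶ S}
    (q : Γs (Q i) (PO pbar (Over.mk x))) (hq : cl pbar q = 0) :
    ∃ b : Γs (I i) (PO pbar (Over.mk x)), m (β i) _ b = q := by
  obtain ⟨T1, g, b, h1, h2, ⟨t, -⟩, hb⟩ := exists_of_cl_eq_zero q hq (IsLocalRing.closedPoint Ω)
  have : Nonempty T1.left := ⟨t⟩
  let g' : T1.left ⟶ Spec (CommRingCat.of Ω) := g.left
  have h3 : LocallyOfFinitePresentation g' := h2
  have h4 : LocallyOfFiniteType g' := inferInstance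
  obtain ⟨s, hs⟩ := exists_section g'
  let s' : Over.mk x ⟶ T1 := Over.homMk s (by
    rw [← Over.w g]
    change s ≫ g' ≫ x = x
    rw [reassoc_of% hs])
  have hs' : s' ≫ g = 𝟙 _ := by
    ext : 1
    exact hs
  refine ⟨r (I i) (POm pbar s') b, ?_⟩
  rw [m_r, hb, r_r, ← POm_comp, hs', POm_id, r_id]

end Groth.Agent.Etdl.H494.Gamma

end
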