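import Groth.Agent.Etdl.H494.Opn
import Groth.Agent.Etdl.H432.Un

/-!
# Sections of `G_m(m)` as functions

* `un i s ∈ Γ(W, ⊤)` for `s ∈ (GmMod i)(W)`.
* `val s ∈ Γ(Z, V)` for `s ∈ (GmMod i)(opn Z V)`: additive, injective, compatible with `opnMap`,
  image = units which are `1` on `Y`.
-/

set_option autoImplicit false
universe u
open CategoryTheory CategoryTheory.Limits AlgebraicGeometry Opposite

noncomputable section

namespace Groth.Agent.Etdl.H494

open Groth.Agent.Etdl.H432.Sec Groth.Agent.Etdl.H432.Un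

variable {Y P : Scheme.{u}} {i : Y ⟶ P}

/-- The function on `V` of a section of `G_m(m)` over the open subscheme `V` of `Z`. -/
def val {Z : Over P} {V : Z.left.Opens} (s : Γs (F i) (opn Z V)) : Γ(Z.left, V) :=
  V.topIso.hom.hom (un i s)

theorem val_isUnit {Z : Over P} {V : Z.left.Opens} (s : Γs (F i) (opn Z V)) :
    IsUnit (val s) := (isUnit_un s).map _

theorem val_add {Z : Over P} {V : Z.left.Opens} (s t : Γs (F i) (opn Z V)) :
    val (s + t) = val s * val t := by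
  rw [val, un_add, map_mul]
  rfl

theorem val_zero {Z : Over P} {V : Z.left.Opens} :
    val (0 : Γs (F i) (opn Z V)) = 1 := by
  rw [val, un_zero, map_one]

theorem topIso_hom_injective {Z : Scheme.{u}} (V : Z.Opens) : Function.Injective V.topIso.hom.hom :=
  (ConcreteCategory.bijective_of_isIso V.topIso.hom).1

theorem val_injective {Z : Over P} {V : Z.left.Opens} : Function.Injective (val (i := i) (Z := Z) (V := V)) :=
  (topIso_hom_injective V).comp un_injective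

theorem val_rs {Z Z' : Over P} (k : Z' ⟶ Z) (V : Z.left.Opens) (V' : Z'.left.Opens) (h : V' ≤ k.left ⁻¹ᵁ V)
    (s : Γs (F i) (opn Z V)) :
    val (r (F i) (opnMap k V V' h) s) = (k.left.appLE V V' h).hom (val s) := by
  rw [val, un_r]
  have e : (k.left.resLE V V' h).appTop ≫ V'.topIso.hom = V.topIso.hom ≫ k.left.appLE V V' h := by
    rw [Scheme.Hom.appTop, Scheme.Hom.resLE_app_top, Category.assoc, Category.assoc, Iso.inv_hom_id,
      Category.comp_id]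
  exact congr($(e).hom (un i s))

theorem appLE_app_eq {A B C : Scheme.{u}} (f : A ⟶ B) (g : B ⟶ C) (V : C.Opens) (W : A.Opens)
    (h : W ≤ f ⁻¹ᵁ g ⁻¹ᵁ V) (u : Γ(C, V)) :
    (f.appLE (g ⁻¹ᵁ V) W h).hom ((g.app V).hom u) = ((f ≫ g).appLE V W h).hom u := by
  rw [Scheme.Hom.comp_appLE]
  rfl

theorem topIso_inv_eq {Z : Scheme.{u}} (V : Z.Opens) (h : (⊤ : V.toScheme.Opens) ≤ V.ι ⁻¹ᵁ V) :
    V.topIso.inv = V.ι.appLE V ⊤ h := by
  rw [Scheme.Opens.topIso_inv, Scheme.Opens.ι_appLE]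
  rfl

theorem appLE_congr_hom {A B : Scheme.{u}} {f g : A ⟶ B} (e : f = g) (V : B.Opens) (W : A.Opens)
    (h : W ≤ f ⁻¹ᵁ V) (h' : W ≤ g ⁻¹ᵁ V) : f.appLE V W h = g.appLE V W h' := by
  subst e
  rfl

/-- `u = 1` on `Y`, for an open subscheme. -/
theorem appTop_eq_one_iff {Z : Over P} {V : Z.left.Opens} (u : Γ(Z.left, V)) :
    (pullback.fst (opn Z V).hom i).appTop.hom (V.topIso.inv.hom u) = 1 ↔
      ((pullback.fst Z.hom i).app V).hom u = 1 := by
  let yV := pullback.fst (V.ι ≫ Z.hom) i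
  let yZ := pullback.fst Z.hom i
  have h0 : (⊤ : V.toScheme.Opens) ≤ V.ι ⁻¹ᵁ V := by
    intro x _
    exact x.2
  have hV : ∀ h : (⊤ : (pullback (V.ι ≫ Z.hom) i).Opens) ≤ (yV ≫ V.ι) ⁻¹ᵁ V,
      yV.appTop.hom (V.topIso.inv.hom u) = ((yV ≫ V.ι).appLE V ⊤ h).hom u := by
    intro h
    rw [topIso_inv_eq V h0, ← Scheme.Hom.appLE_comp_appLE yV V.ι V ⊤ ⊤ h0 le_top, CommRingCat.comp_apply]
    rw [Scheme.Hom.appTop, Scheme.Hom.app_eq_appLE]
    rfl
  have hle : (⊤ : (pullback (V.ι ≫ Z.hom) i).Opens) ≤ (yV ≫ V.ι) ⁻¹ᵁ V := fun x _ => (yV x).2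
  change yV.appTop.hom (V.topIso.inv.hom u) = 1 ↔ _
  rw [hV hle]
  constructor
  · intro h
    let l : (yZ ⁻¹ᵁ V).toScheme ⟶ pullback (V.ι ≫ Z.hom) i :=
      pullback.lift (yZ.resLE V (yZ ⁻¹ᵁ V) le_rfl) ((yZ ⁻¹ᵁ V).ι ≫ pullback.snd Z.hom i) (by
        rw [Scheme.Hom.resLE_comp_ι_assoc, Category.assoc, pullback.condition])
    have hl : l ≫ yV ≫ V.ι = (yZ ⁻¹ᵁ V).ι ≫ yZ := by
      rw [pullback.lift_fst_assoc, Scheme.Hom.resLE_comp_ι]
    apply (ConcreteCategory.bijective_of_isIso (yZ ⁻¹ᵁ V).topIso.inv).1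
    have h1 : (⊤ : (yZ ⁻¹ᵁ V).toScheme.Opens) ≤ (yZ ⁻¹ᵁ V).ι ⁻¹ᵁ (yZ ⁻¹ᵁ V) := fun x _ => x.2
    rw [topIso_inv_eq _ h1, map_one]
    have h2 : ((yZ ⁻¹ᵁ V).ι.appLE (yZ ⁻¹ᵁ V) ⊤ h1).hom ((yZ.app V).hom u) = 1 := by
      rw [appLE_app_eq, appLE_congr_hom hl.symm V ⊤ _ (fun x _ => hle trivial),
        ← Scheme.Hom.appLE_comp_appLE l (yV ≫ V.ι) V ⊤ ⊤ hle (fun x _ => trivial), CommRingCat.comp_apply]
      exact (congrArg _ h).trans (map_one _)
    exact h2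
  · intro h
    let r : pullback (V.ι ≫ Z.hom) i ⟶ pullback Z.hom i :=
      pullback.lift (yV ≫ V.ι) (pullback.snd _ _) (by rw [Category.assoc, pullback.condition])
    have hr : yV ≫ V.ι = r ≫ yZ := (pullback.lift_fst _ _ _).symm
    rw [appLE_congr_hom hr V ⊤ _ (hr ▸ hle), ← appLE_app_eq]
    exact (congrArg _ h).trans (map_one _)

theorem val_Y {Z : Over P} {V : Z.left.Opens} (s : Γs (F i) (opn Z V)) :
    ((pullback.fst Z.hom i).app V).hom (val s) = 1 := by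
  rw [← appTop_eq_one_iff]
  have h : V.topIso.inv.hom (val s) = un i s := by
    rw [val, ← CommRingCat.comp_apply, Iso.hom_inv_id]
    rfl
  rw [h]
  exact tr_un s

theorem exists_val {Z : Over P} {V : Z.left.Opens} (u : Γ(Z.left, V)) (hu : IsUnit u)
    (hY : ((pullback.fst Z.hom i).app V).hom u = 1) :
    ∃ s : Γs (F i) (opn Z V), val s = u := by
  obtain ⟨s, hs⟩ := exists_un (i := i) (U := opn Z V) (V.topIso.inv.hom u) (hu.map _)
    ((appTop_eq_one_iff u).2 hY)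
  refine ⟨s, ?_⟩
  rw [val, hs, ← CommRingCat.comp_apply, Iso.inv_hom_id]
  rfl

end Groth.Agent.Etdl.H494

end
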