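import Groth.Agent.Etdl.H494.Sp
import Mathlib.RingTheory.RingHom.FaithfullyFlat
import Mathlib.AlgebraicGeometry.Morphisms.Flat
import Mathlib.AlgebraicGeometry.Morphisms.UniversallyOpen

/-!
# Hilbert 90 for `G_m(m)`

A section `q` of `Q = I / F` over `Z` lifts to `I` locally for the Zariski topology of `Z`.
-/

set_option autoImplicit false
universe u
open CategoryTheory CategoryTheory.Limits AlgebraicGeometry Opposite TensorProduct

noncomputable section

namespace Groth.Agent.Etdl.H494.H90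

open Groth.Agent.Etdl.H432.Sec Groth.Agent.Etdl.H432.Un Groth.Agent.Etdl.H432.IQ Groth.Agent.Etdl.H432.LS Sp

variable {Y P : Scheme.{u}} {i : Y ⟶ P} {Z : Over P}

section inc

variable {B : Type u} [CommRing B] (e : Spec (CommRingCat.of B) ⟶ Z.left)
  {R : Type u} [CommRing R] [Algebra B R] {R' : Type u} [CommRing R'] [Algebra B R']

/-- `Spec R ⟶ Z`. -/
def inc (R : Type u) [CommRing R] [Algebra B R] : sp (e ≫ Z.hom) R ⟶ Z :=
  Over.homMk (Spec.map (CommRingCat.ofHom (algebraMap B R)) ≫ e) (Category.assoc _ _ _)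

theorem spMap_inc (ψ : R →ₐ[B] R') : spMap (e ≫ Z.hom) ψ ≫ inc e R = inc e R' := by
  ext : 1
  change Spec.map _ ≫ Spec.map _ ≫ e = Spec.map _ ≫ e
  rw [← Category.assoc, ← Spec.map_comp, ← CommRingCat.ofHom_comp]
  congr 3
  exact ψ.comp_algebraMap

theorem inc_self_left : (inc e B).left = e :=
  (congrArg (fun k => k ≫ e) (Spec.map_id (CommRingCat.of B))).trans (Category.id_comp e)

theorem comp_inc_self_apply {W : Over P} (k : W ⟶ sp (e ≫ Z.hom) B) (z : W.left) :
    (k ≫ inc e B).left z = e (k.left z) := by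
  rw [Over.comp_left, Scheme.Hom.comp_apply, inc_self_left]

theorem mono_inc [IsOpenImmersion e] : Mono (inc e B) := by
  have : Mono (inc e B).left := by
    change Mono (Spec.map (CommRingCat.ofHom (algebraMap B B)) ≫ e)
    have : CommRingCat.ofHom (algebraMap B B) = 𝟙 _ := rfl
    rw [this, Spec.map_id]
    infer_instance
  exact Over.mono_of_mono_left _

end inc

/-- A lift over one affine flat cover of an affine neighbourhood. -/
theorem exists_lift_aff (q : Γs (Q i) Z) (x : Z.left) :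
    ∃ (B : Type u) (_ : CommRing B) (e : Spec (CommRingCat.of B) ⟶ Z.left) (_ : IsOpenImmersion e)
      (y : Spec (CommRingCat.of B)) (_ : e y = x) (C : Type u) (_ : CommRing C) (_ : Algebra B C)
      (_ : Module.FaithfullyFlat B C) (_ : Algebra.FinitePresentation B C)
      (t : Γs (I i) (sp (e ≫ Z.hom) C)), IsLift q (inc e C) t := by
  obtain ⟨V, k, b, h1, h2, ⟨v, hv⟩, hb⟩ := exists_β q x
  obtain ⟨O, hO, hxO, -⟩ := exists_isAffineOpen_mem_and_subset (x := x) (U := ⊤) trivial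
  obtain ⟨W, hW, hvW, hWO⟩ := exists_isAffineOpen_mem_and_subset (x := v) (U := k.left ⁻¹ᵁ O) (by
    change k.left v ∈ O
    rw [hv]
    exact hxO)
  let N : Z.left.Opens := ⟨k.left '' (W : Set V.left), k.left.isOpenMap _ W.2⟩
  have hxN : x ∈ N := ⟨v, hvW, hv⟩
  obtain ⟨f, hfN, hxf⟩ := hO.exists_basicOpen_le ⟨x, hxN⟩ hxO
  have hD : IsAffineOpen (Z.left.basicOpen f) := hO.basicOpen f
  let D := Z.left.basicOpen f
  let W' : V.left.Opens := V.left.basicOpen ((k.left.appLE O W hWO).hom f)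
  have hW' : IsAffineOpen W' := hW.basicOpen _
  have hW'e : W' = W ⊓ k.left ⁻¹ᵁ D := by
    rw [Scheme.Hom.preimage_basicOpen]
    change V.left.basicOpen ((k.left.app O ≫ V.left.presheaf.map (homOfLE hWO).op).hom f) = _
    exact V.left.basicOpen_res _ (homOfLE hWO).op
  have hle : W' ≤ k.left ⁻¹ᵁ D := by rw [hW'e]; exact inf_le_right
  let B := Γ(Z.left, D)
  let C := Γ(V.left, W')
  let φ : Γ(Z.left, D) ⟶ Γ(V.left, W') := k.left.appLE D W' hle
  have hsq : Spec.map φ ≫ hD.fromSpec = hW'.fromSpec ≫ k.left := hD.SpecMap_appLE_fromSpec k.left hW' hle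
  have hff : φ.hom.FaithfullyFlat := by
    rw [RingHom.FaithfullyFlat.iff_flat_and_comap_surjective]
    refine ⟨Scheme.Hom.flat_appLE k.left hD hW' hle, ?_⟩
    intro z
    have hz : hD.fromSpec z ∈ D := by
      have : hD.fromSpec z ∈ Set.range hD.fromSpec := ⟨z, rfl⟩
      rwa [hD.range_fromSpec] at this
    obtain ⟨w, hw, hwz⟩ := hfN hz
    have hw' : w ∈ W' := by
      rw [hW'e]
      refine ⟨hw, ?_⟩
      change k.left w ∈ D
      rw [hwz]
      exact hz
    have hw2 : w ∈ Set.range hW'.fromSpec := by rw [hW'.range_fromSpec]; exact hw'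
    obtain ⟨z', hz'⟩ := hw2
    refine ⟨z', ?_⟩
    apply hD.fromSpec.isOpenEmbedding.injective
    change (Spec.map φ ≫ hD.fromSpec) z' = _
    rw [hsq, Scheme.Hom.comp_apply, hz', hwz]
  have hfp : φ.hom.FinitePresentation := Scheme.Hom.finitePresentation_appLE k.left hD hW' hle
  have hxD : x ∈ Set.range hD.fromSpec := by rw [hD.range_fromSpec]; exact hxf
  obtain ⟨y, hy⟩ := hxD
  let _ : Algebra B C := φ.hom.toAlgebra
  refine ⟨B, inferInstance, hD.fromSpec, inferInstance, y, hy, C, inferInstance, φ.hom.toAlgebra,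
    (RingHom.faithfullyFlat_algebraMap_iff).1 hff, hfp, ?_⟩
  let k' : sp (hD.fromSpec ≫ Z.hom) C ⟶ V := Over.homMk hW'.fromSpec (by
    change hW'.fromSpec ≫ V.hom = Spec.map φ ≫ hD.fromSpec ≫ Z.hom
    rw [reassoc_of% hsq, Over.w k])
  refine ⟨r (I i) k' b, IsLift.res' hb k' ?_⟩
  ext : 1
  exact hsq.symm

section

variable {B : Type u} [CommRing B] {e : Spec (CommRingCat.of B) ⟶ Z.left}
  {C : Type u} [CommRing C] [Algebra B C]

theorem r_spMap {F₀ : EtFppf.AbF P} {g : Spec (CommRingCat.of B) ⟶ P} {R R' R'' : Type u} [CommRing R] [Algebra B R]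
    [CommRing R'] [Algebra B R'] [CommRing R''] [Algebra B R''] (ψ : R →ₐ[B] R') (ψ' : R' →ₐ[B] R'')
    (s : Γs F₀ (sp g R)) : r F₀ (spMap g ψ') (r F₀ (spMap g ψ) s) = r F₀ (spMap g (ψ'.comp ψ)) s := by
  rw [r_r, spMap_comp]

open Groth.Agent.Sga4h in
/-- The cocycle of a lift. -/
theorem exists_cocycle (q : Γs (Q i) Z) (t : Γs (I i) (sp (e ≫ Z.hom) C)) (ht : IsLift q (inc e C) t) :
    ∃ d : Γs (F i) (sp (e ≫ Z.hom) (C ⊗[B] C)),
      m (α i) _ d = r (I i) (spMap _ iR) t - r (I i) (spMap _ iL) t ∧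
      UnitCocycle.IsCocycle (unr (e ≫ Z.hom) d) := by
  obtain ⟨d, hd⟩ := exists_α (i := i) (r (I i) (spMap (e ≫ Z.hom) (iR (B := B) (C := C))) t -
      r (I i) (spMap (e ≫ Z.hom) iL) t) (by
    rw [map_sub, (ht.res' (spMap (e ≫ Z.hom) iR) (spMap_inc e iR)), (ht.res' (spMap (e ≫ Z.hom) iL) (spMap_inc e iL)),
      sub_self])
  refine ⟨d, hd, ?_⟩
  have key : r (F i) (spMap _ UnitCocycle.e12) d + r (F i) (spMap _ UnitCocycle.e23) d =
      r (F i) (spMap _ UnitCocycle.e13) d := by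
    apply α_injective
    rw [map_add, m_r, m_r, m_r, hd, map_sub, map_sub, map_sub]
    simp only [r_spMap]
    have e1 : (UnitCocycle.e12 (B := B) (C := C)).comp iR =
        (UnitCocycle.e23 (B := B) (C := C)).comp iL := by
      ext c; simp
    have e2 : (UnitCocycle.e12 (B := B) (C := C)).comp iL =
        (UnitCocycle.e13 (B := B) (C := C)).comp iL := by
      ext c; simp
    have e3 : (UnitCocycle.e13 (B := B) (C := C)).comp iR =
        (UnitCocycle.e23 (B := B) (C := C)).comp iR := by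
      ext c; simp
    rw [e1, e2, e3]
    abel
  have key2 := congrArg (unr _) key
  simp only [unr_add, unr_map] at key2
  exact key2

end

theorem isUnit_of_basicOpen {T : Scheme.{u}} {U : T.Opens} (f : Γ(T, U)) (h : U ≤ T.basicOpen f) : IsUnit f := by
  apply RingedSpace.isUnit_of_isUnit_germ T.toRingedSpace U f
  intro x hx
  exact (T.mem_basicOpen f x hx).1 (h hx)

theorem isUnit_of_mem {T : Scheme.{u}} {B : Type u} [CommRing B] (h : T ⟶ Spec (CommRingCat.of B)) (s : B)
    (hs : ∀ z, h z ∈ PrimeSpectrum.basicOpen s) :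
    IsUnit (h.appTop.hom ((Scheme.ΓSpecIso (CommRingCat.of B)).inv.hom s)) := by
  apply isUnit_of_basicOpen
  have h1 : (Spec (CommRingCat.of B)).basicOpen ((Scheme.ΓSpecIso (CommRingCat.of B)).inv.hom s) =
      PrimeSpectrum.basicOpen s := basicOpen_eq_of_affine (R := CommRingCat.of B) s
  have h2 := Scheme.preimage_basicOpen h ((Scheme.ΓSpecIso (CommRingCat.of B)).inv.hom s)
  rw [h1] at h2
  intro z _
  have h3 : z ∈ h ⁻¹ᵁ (PrimeSpectrum.basicOpen s) := hs z
  rw [h2] at h3
  exact h3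

section Main

variable {B : Type u} [CommRing B] {e : Spec (CommRingCat.of B) ⟶ Z.left}
  {C : Type u} [CommRing C] [Algebra B C]

/-- The lift over an open subset of the neighbourhood. -/
theorem exists_lift_opn [IsOpenImmersion e] [Module.FaithfullyFlat B C] [Algebra.FinitePresentation B C]
    (q : Γs (Q i) Z) (t : Γs (I i) (sp (e ≫ Z.hom) C)) (ht : IsLift q (inc e C) t)
    (d : Γs (F i) (sp (e ≫ Z.hom) (C ⊗[B] C)))
    (hd : m (α i) _ d = r (I i) (spMap _ iR) t - r (I i) (spMap _ iL) t)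
    (w c : C) (s : B) (hwc : w * c = algebraMap B C s)
    (hw : unr (e ≫ Z.hom) d * (w ⊗ₜ[B] (1 : C)) = (1 : C) ⊗ₜ[B] w)
    (hw1 : tr i (sp (e ≫ Z.hom) C) (toO _ C w) = 1) (V : Z.left.Opens)
    (hV : ∀ z ∈ V, ∃ y ∈ PrimeSpectrum.basicOpen s, e y = z) :
    ∃ b : Γs (I i) (opn Z V), IsLift q (opnι Z V) b := by
  obtain ⟨T, p, p', hpp, hT, hsurj⟩ := exists_pb (opnι Z V) (inc e C)
  -- the map to `sp B`
  have hmono := mono_inc e
  have hτ : ∀ {W : Over P} (a : W ⟶ sp (e ≫ Z.hom) C) (f : W ⟶ opn Z V), f ≫ opnι Z V = a ≫ inc e C →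
      IsUnit (ev _ a w) := by
    intro W a f haf
    have h1 : ev _ a (algebraMap B C s) = ev _ (a ≫ spMap _ (Algebra.ofId B C)) s :=
      (ev_spMap _ a (Algebra.ofId B C) s).symm
    have h2 : IsUnit (ev _ (a ≫ spMap (e ≫ Z.hom) (Algebra.ofId B C)) s) := by
      refine isUnit_of_mem (a ≫ spMap (e ≫ Z.hom) (Algebra.ofId B C)).left s ?_
      intro z
      obtain ⟨y, hy, hyz⟩ := hV ((f ≫ opnι Z V).left z) (f.left z).2
      have h3 : e ((a ≫ spMap (e ≫ Z.hom) (Algebra.ofId B C)).left z) = e y := by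
        have h5 := comp_inc_self_apply e (a ≫ spMap _ (Algebra.ofId B C)) z
        rw [Category.assoc, spMap_inc, ← haf] at h5
        exact h5.symm.trans hyz.symm
      rw [e.isOpenEmbedding.injective h3]
      exact hy
    rw [← h1, ← hwc, map_mul] at h2
    exact isUnit_of_mul_isUnit_left h2
  have htr : ∀ {W : Over P} (a : W ⟶ sp (e ≫ Z.hom) C), tr i W (ev _ a w) = 1 := by
    intro W a
    rw [ev_apply]
    exact tr_ro_eq_one i a _ hw1
  obtain ⟨y, hy⟩ := exists_un (i := i) (ev _ p' w) (hτ p' p hpp) (htr p')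
  have hp : IsCov (fun _ : Unit => p) := by
    intro z
    obtain ⟨y, hy, hyz⟩ := hV z.1 z.2
    have hflat : (CommRingCat.ofHom (algebraMap B C)).hom.FaithfullyFlat :=
      (RingHom.faithfullyFlat_algebraMap_iff).2 inferInstance
    obtain ⟨y', hy'⟩ := (RingHom.FaithfullyFlat.iff_flat_and_comap_surjective.1 hflat).2 y
    obtain ⟨z', hz', -⟩ := hsurj z y' (by
      refine hyz.symm.trans ?_
      change e y = (Spec.map (CommRingCat.ofHom (algebraMap B C)) ≫ e) y'
      rw [Scheme.Hom.comp_apply]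
      congr 1
      exact hy'.symm)
    have h1 : Flat (inc e C).left := by
      have : Flat (Spec.map (CommRingCat.ofHom (algebraMap B C))) := by
        rw [HasRingHomProperty.Spec_iff (P := @Flat)]
        exact (RingHom.flat_algebraMap_iff).2 inferInstance
      exact inferInstanceAs (Flat (Spec.map (CommRingCat.ofHom (algebraMap B C)) ≫ e))
    have h2 : LocallyOfFinitePresentation (inc e C).left := by
      have : LocallyOfFinitePresentation (Spec.map (CommRingCat.ofHom (algebraMap B C))) := by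
        rw [HasRingHomProperty.Spec_iff (P := @LocallyOfFinitePresentation)]
        exact (RingHom.finitePresentation_algebraMap).2 inferInstance
      exact inferInstanceAs (LocallyOfFinitePresentation (Spec.map (CommRingCat.ofHom (algebraMap B C)) ≫ e))
    exact ⟨(), MorphismProperty.of_isPullback (P := @Flat) hT.flip h1,
      MorphismProperty.of_isPullback (P := @LocallyOfFinitePresentation) hT.flip h2, z', hz'⟩
  obtain ⟨b, hb⟩ := glue (I i) hp (fun _ => r (I i) p' t - m (α i) _ y) (by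
    intro _ _ W a a' haa
    have h0 : (a ≫ p') ≫ spMap (e ≫ Z.hom) (Algebra.ofId B C) = (a' ≫ p') ≫ spMap (e ≫ Z.hom) (Algebra.ofId B C) := by
      rw [← cancel_mono (inc e B), Category.assoc, Category.assoc, Category.assoc, Category.assoc, spMap_inc, ← hpp,
        reassoc_of% haa]
    obtain ⟨h, h1, h2⟩ := exists_pair _ (a ≫ p') (a' ≫ p') h0
    have e1 : m (α i) _ (r (F i) h d) = r (I i) (a' ≫ p') t - r (I i) (a ≫ p') t := by
      rw [m_r, hd, map_sub, r_r, r_r, h1, h2]
    have e2 : r (F i) h d + r (F i) a y = r (F i) a' y := by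
      apply un_injective
      rw [un_add, ← ev_unr, un_r, un_r, hy, ← ev_comp, ← ev_comp, ← h1, ← h2, ev_spMap, ev_spMap, ← map_mul]
      exact congrArg _ hw
    rw [map_sub, map_sub, r_r, r_r, ← m_r, ← m_r, ← e2, map_add, e1]
    abel)
  refine ⟨b, ?_⟩
  refine sep (Q i) hp _ _ fun _ => ?_
  rw [← m_r, hb (), map_sub, β_α, sub_zero, (ht.res' p' hpp.symm), r_r]

end Main

/-- Sections of `I / F` lift locally for the Zariski topology. -/
theorem exists_open_lift [IsClosedImmersion i] (q : Γs (Q i) Z) (x : Z.left) :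
    ∃ (V : Z.left.Opens) (_ : x ∈ V) (b : Γs (I i) (opn Z V)), IsLift q (opnι Z V) b := by
  obtain ⟨B, _, e, he, y, hy, C, _, _, _, _, t, ht⟩ := exists_lift_aff q x
  obtain ⟨d, hd, hc⟩ := exists_cocycle q t ht
  obtain ⟨J, hJ⟩ := exists_ideal (e ≫ Z.hom) i
  have hu : IsUnit (unr (e ≫ Z.hom) d) := isUnit_unr _ d
  have h1 : (hu.unit : C ⊗[B] C) - 1 ∈ J.map (algebraMap B (C ⊗[B] C)) := by
    rw [← hJ, map_sub, map_sub, map_one, map_one, IsUnit.unit_spec, toO_unr, tr_un, sub_self]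
  have hp : y.asIdeal.IsPrime := y.isPrime
  obtain ⟨s, hs, w, c, hwc, hw, hw1⟩ := H90Alg.main hu.unit hc J h1 y.asIdeal
  let V : Z.left.Opens := e ''ᵁ (PrimeSpectrum.basicOpen s)
  refine ⟨V, ⟨y, hs, hy⟩, ?_⟩
  refine exists_lift_opn q t ht d hd w c s hwc hw ?_ V ?_
  · have h2 := (hJ C (w - 1)).2 hw1
    rwa [map_sub, map_sub, map_one, map_one, sub_eq_zero] at h2
  · rintro _ ⟨y', hy', rfl⟩
    exact ⟨y', hy', rfl⟩

end Groth.Agent.Etdl.H494.H90

end
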