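import Groth.Agent.Sga4h.UnitCocycle
import Mathlib.RingTheory.Flat.FaithfullyFlat.Algebra
import Mathlib.LinearAlgebra.TensorProduct.Quotient

/-!
# Hilbert 90 with a congruence condition, ring form

`B → C` faithfully flat, `u ∈ (C ⊗ C)ˣ` a cocycle, `u ≡ 1` modulo an ideal `I` of `B`, `p` a prime of `B`: there are
`s ∉ p`, `w c : C`, `w * c = s`, `u * (w ⊗ 1) = 1 ⊗ w` and `w ≡ 1` modulo `I C`.
-/

set_option autoImplicit false
universe u v

open TensorProduct

namespace Groth.Agent.Etdl.H494.H90Alg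

open Groth.Agent.Sga4h.UnitCocycle

variable {B : Type u} {C : Type v} [CommRing B] [CommRing C] [Algebra B C]

section BC

variable (B' : Type*) [CommRing B'] [Algebra B B']

/-- `C ⊗ C ⟶ C' ⊗ C'`, `C' = B' ⊗ C`. -/
noncomputable def rho : C ⊗[B] C →ₐ[B] (B' ⊗[B] C) ⊗[B'] (B' ⊗[B] C) :=
  Algebra.TensorProduct.lift
    (((Algebra.TensorProduct.includeLeft : B' ⊗[B] C →ₐ[B'] (B' ⊗[B] C) ⊗[B'] (B' ⊗[B] C)).restrictScalars B).comp
      (Algebra.TensorProduct.includeRight : C →ₐ[B] B' ⊗[B] C))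
    (((Algebra.TensorProduct.includeRight : B' ⊗[B] C →ₐ[B'] (B' ⊗[B] C) ⊗[B'] (B' ⊗[B] C)).restrictScalars B).comp
      (Algebra.TensorProduct.includeRight : C →ₐ[B] B' ⊗[B] C))
    (fun _ _ => Commute.all _ _)

theorem rho_tmul (a b : C) : rho (B := B) B' (a ⊗ₜ[B] b) = ((1 : B') ⊗ₜ[B] a) ⊗ₜ[B'] ((1 : B') ⊗ₜ[B] b) := by
  simp [rho]

theorem exists_of_rho [Module.FaithfullyFlat B' (B' ⊗[B] C)] (l : C)
    (hl : rho (B := B) B' (l ⊗ₜ[B] (1 : C) - (1 : C) ⊗ₜ[B] l) = 0) :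
    ∃ b : B', b ⊗ₜ[B] (1 : C) = (1 : B') ⊗ₜ[B] l := by
  rw [map_sub, sub_eq_zero, rho_tmul, rho_tmul] at hl
  have h3 : ((1 : B') ⊗ₜ[B] l) ∈ L (1 : (B' ⊗[B] C) ⊗[B'] (B' ⊗[B] C)) := by
    rw [mem_L, one_mul]
    exact hl
  obtain ⟨b', hb'⟩ := (toL1_bijective (B := B') (C := B' ⊗[B] C)).2 ⟨_, h3⟩
  exact ⟨b', congrArg Subtype.val hb'⟩

end BC

/-- elements with the same two images modulo `I` come from `B` modulo `I`. -/
theorem exists_sub_mem [Module.FaithfullyFlat B C] (I : Ideal B) (l : C)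
    (hl : l ⊗ₜ[B] (1 : C) - (1 : C) ⊗ₜ[B] l ∈ I.map (algebraMap B (C ⊗[B] C))) :
    ∃ b : B, l - algebraMap B C b ∈ I.map (algebraMap B C) := by
  have h0 : ∀ x ∈ I.map (algebraMap B (C ⊗[B] C)), rho (B := B) (B ⧸ I) x = 0 := by
    have : I.map (algebraMap B (C ⊗[B] C)) ≤ RingHom.ker (rho (B := B) (C := C) (B ⧸ I)).toRingHom := by
      rw [Ideal.map_le_iff_le_comap]
      intro b hb
      rw [Ideal.mem_comap, RingHom.mem_ker]
      refine ((rho (B := B) (C := C) (B ⧸ I)).commutes b).trans ?_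
      rw [IsScalarTower.algebraMap_apply B (B ⧸ I) (((B ⧸ I) ⊗[B] C) ⊗[B ⧸ I] ((B ⧸ I) ⊗[B] C))]
      have : algebraMap B (B ⧸ I) b = 0 := Ideal.Quotient.eq_zero_iff_mem.2 hb
      rw [this, map_zero]
    intro x hx
    exact this hx
  obtain ⟨b', hb'⟩ := exists_of_rho (B ⧸ I) l (h0 _ hl)
  obtain ⟨b, rfl⟩ := Ideal.Quotient.mk_surjective b'
  refine ⟨b, ?_⟩
  have h6 : ∀ c : C, (1 : B ⧸ I) ⊗ₜ[B] c = 0 → c ∈ I.map (algebraMap B C) := by
    intro c hc
    have h7 : (TensorProduct.quotTensorEquivQuotSMul C I) ((1 : B ⧸ I) ⊗ₜ[B] c) = 0 := by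
      rw [hc, map_zero]
    have h8 : (1 : B ⧸ I) = Ideal.Quotient.mk I 1 := rfl
    rw [h8, TensorProduct.quotTensorEquivQuotSMul_mk_tmul, one_smul, Submodule.Quotient.mk_eq_zero] at h7
    rw [Ideal.smul_top_eq_map] at h7
    exact h7
  apply h6
  rw [TensorProduct.tmul_sub, ← hb', sub_eq_zero]
  have e : algebraMap B C b = b • (1 : C) := Algebra.algebraMap_eq_smul_one b
  rw [e, ← TensorProduct.smul_tmul]
  congr 1
  exact (Algebra.algebraMap_eq_smul_one (A := B ⧸ I) b)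

variable [Module.FaithfullyFlat B C] (u : (C ⊗[B] C)ˣ) (hc : IsCocycle (u : C ⊗[B] C))

include hc in
/-- `1 = Σ l c` with `l ∈ L u`. -/
theorem one_mem_span : (1 : C) ∈ Ideal.span (L (u : C ⊗[B] C) : Set C) := by
  obtain ⟨x, hx⟩ := (mulL_bijective u hc).2 1
  rw [← hx]
  clear hx
  induction x with
  | zero => rw [map_zero]; exact Submodule.zero_mem _
  | add a b ha hb => rw [map_add]; exact Submodule.add_mem _ ha hb
  | tmul l c =>
    rw [mulL_tmul]
    exact Ideal.mul_mem_right _ _ (Ideal.subset_span l.2)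

theorem sub_mem_of_mem_L (I : Ideal B) (hI : (u : C ⊗[B] C) - 1 ∈ I.map (algebraMap B (C ⊗[B] C)))
    (l : C) (hl : l ∈ L (u : C ⊗[B] C)) :
    ∃ b : B, l - algebraMap B C b ∈ I.map (algebraMap B C) := by
  apply exists_sub_mem
  rw [mem_L] at hl
  rw [← hl]
  have : l ⊗ₜ[B] (1 : C) - (u : C ⊗[B] C) * l ⊗ₜ[B] (1 : C) = -(((u : C ⊗[B] C) - 1) * l ⊗ₜ[B] (1 : C)) := by
    ring
  rw [this]
  exact neg_mem (Ideal.mul_mem_right _ _ hI)

include hc in
theorem exists_w (I : Ideal B) (hI : (u : C ⊗[B] C) - 1 ∈ I.map (algebraMap B (C ⊗[B] C))) :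
    ∃ w ∈ L (u : C ⊗[B] C), w - 1 ∈ I.map (algebraMap B C) := by
  let N : Ideal B :=
    { carrier := {b | ∃ l ∈ L (u : C ⊗[B] C), l - algebraMap B C b ∈ I.map (algebraMap B C)}
      add_mem' := by
        rintro a b ⟨l, hl, h⟩ ⟨l', hl', h'⟩
        refine ⟨l + l', add_mem hl hl', ?_⟩
        have : l + l' - algebraMap B C (a + b) = (l - algebraMap B C a) + (l' - algebraMap B C b) := by
          rw [map_add]; ring
        rw [this]
        exact add_mem h h'
      zero_mem' := ⟨0, zero_mem _, by rw [map_zero, sub_zero]; exact zero_mem _⟩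
      smul_mem' := by
        rintro a b ⟨l, hl, h⟩
        refine ⟨a • l, Submodule.smul_mem _ _ hl, ?_⟩
        have : a • l - algebraMap B C (a • b) = algebraMap B C a * (l - algebraMap B C b) := by
          rw [Algebra.smul_def, smul_eq_mul, map_mul]; ring
        rw [this]
        exact Ideal.mul_mem_left _ _ h }
  have hIN : I ≤ N := by
    intro b hb
    refine ⟨0, zero_mem _, ?_⟩
    rw [zero_sub]
    exact neg_mem (Ideal.mem_map_of_mem _ hb)
  have hN : N.map (algebraMap B C) = ⊤ := by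
    rw [Ideal.eq_top_iff_one]
    have h1 := one_mem_span u hc
    refine Ideal.span_le.2 ?_ h1
    intro l hl
    obtain ⟨b, hb⟩ := sub_mem_of_mem_L u I hI l hl
    have hbN : b ∈ N := ⟨l, hl, hb⟩
    have : l = (l - algebraMap B C b) + algebraMap B C b := by ring
    rw [this]
    exact add_mem (Ideal.map_mono hIN hb) (Ideal.mem_map_of_mem _ hbN)
  have hN' : N = ⊤ := by
    rw [← Ideal.comap_map_eq_self_of_faithfullyFlat (A := B) (B := C) N, hN, Ideal.comap_top]
  have h1 : (1 : B) ∈ N := by rw [hN']; trivial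
  obtain ⟨w, hw, h⟩ := h1
  exact ⟨w, hw, by rwa [map_one] at h⟩

/-- the ideal `w C` is extended from `B`. -/
theorem mem_map_comap (w : C) (hw : w ∈ L (u : C ⊗[B] C)) :
    w ∈ ((Ideal.span {w}).comap (algebraMap B C)).map (algebraMap B C) := by
  let J : Ideal C := Ideal.span {w}
  let a : Ideal B := J.comap (algebraMap B C)
  let f : (B ⧸ a) →ₐ[B] (C ⧸ J) := Ideal.quotientMapₐ J (Algebra.ofId B C) le_rfl
  have hf : Function.Injective f := Ideal.quotientMap_injective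
  have hf2 : Function.Injective (f.toLinearMap.rTensor C) :=
    Module.Flat.rTensor_preserves_injective_linearMap _ hf
  let q : C ⊗[B] C →ₐ[B] (C ⧸ J) ⊗[B] C := Algebra.TensorProduct.map (Ideal.Quotient.mkₐ B J) (AlgHom.id B C)
  have h1 : f.toLinearMap.rTensor C ((1 : B ⧸ a) ⊗ₜ[B] w) = 0 := by
    rw [LinearMap.rTensor_tmul]
    have e : f.toLinearMap (1 : B ⧸ a) = 1 := map_one f
    rw [e]
    have e2 : (1 : C ⧸ J) ⊗ₜ[B] w = q ((1 : C) ⊗ₜ[B] w) := by
      simp [q]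
    rw [mem_L] at hw
    rw [e2, ← hw, map_mul]
    have e3 : q (w ⊗ₜ[B] (1 : C)) = 0 := by
      have : (Ideal.Quotient.mkₐ B J) w = 0 := Ideal.Quotient.eq_zero_iff_mem.2 (Ideal.mem_span_singleton_self w)
      simp [q, this]
    rw [e3, mul_zero]
  have h2 : (1 : B ⧸ a) ⊗ₜ[B] w = 0 := hf2 (h1.trans (map_zero _).symm)
  have h7 : (TensorProduct.quotTensorEquivQuotSMul C a) ((1 : B ⧸ a) ⊗ₜ[B] w) = 0 := by
    rw [h2, map_zero]
  have h8 : (1 : B ⧸ a) = Ideal.Quotient.mk a 1 := rfl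
  rw [h8, TensorProduct.quotTensorEquivQuotSMul_mk_tmul, one_smul, Submodule.Quotient.mk_eq_zero] at h7
  rw [Ideal.smul_top_eq_map] at h7
  exact h7

theorem exists_dvd (w : C) (hw : w ∈ L (u : C ⊗[B] C)) (p : Ideal B) (hp : w ∉ p.map (algebraMap B C)) :
    ∃ s ∉ p, w ∣ algebraMap B C s := by
  by_contra hcon
  push Not at hcon
  apply hp
  refine Ideal.map_mono ?_ (mem_map_comap u w hw)
  intro s hs
  by_contra hsp
  exact hcon s hsp (Ideal.mem_span_singleton.1 hs)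

/-- For `e ∉ p`, `e` is regular on `C / pC`. -/
theorem mem_of_mul_mem (p : Ideal B) [p.IsPrime] (e : B) (he : e ∉ p) (c : C)
    (h : algebraMap B C e * c ∈ p.map (algebraMap B C)) : c ∈ p.map (algebraMap B C) := by
  let f : (B ⧸ p) →ₗ[B] (B ⧸ p) := LinearMap.lsmul B (B ⧸ p) e
  have hf : Function.Injective f := by
    rw [← LinearMap.ker_eq_bot, LinearMap.ker_eq_bot']
    intro b hb
    obtain ⟨b, rfl⟩ := Ideal.Quotient.mk_surjective b
    have hb2 : Ideal.Quotient.mk p (e * b) = 0 := hb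
    rw [Ideal.Quotient.eq_zero_iff_mem] at hb2 ⊢
    exact (Ideal.IsPrime.mem_or_mem ‹_› hb2).resolve_left he
  have hf2 : Function.Injective (f.rTensor C) :=
    Module.Flat.rTensor_preserves_injective_linearMap _ hf
  have key : ∀ c : C, (1 : B ⧸ p) ⊗ₜ[B] c = 0 ↔ c ∈ p.map (algebraMap B C) := by
    intro c
    rw [← (TensorProduct.quotTensorEquivQuotSMul C p).map_eq_zero_iff]
    have h8 : (1 : B ⧸ p) = Ideal.Quotient.mk p 1 := rfl
    rw [h8, TensorProduct.quotTensorEquivQuotSMul_mk_tmul, one_smul, Submodule.Quotient.mk_eq_zero,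
      Ideal.smul_top_eq_map]
    rfl
  rw [← key] at h ⊢
  apply hf2
  rw [map_zero, LinearMap.rTensor_tmul]
  have e1 : f (1 : B ⧸ p) = e • 1 := rfl
  rw [e1, TensorProduct.smul_tmul, Algebra.smul_def]
  exact h

include hc in
theorem main (I : Ideal B) (hI : (u : C ⊗[B] C) - 1 ∈ I.map (algebraMap B (C ⊗[B] C))) (p : Ideal B)
    [hp : p.IsPrime] : ∃ s ∉ p, ∃ w c : C, w * c = algebraMap B C s ∧
      (u : C ⊗[B] C) * (w ⊗ₜ[B] (1 : C)) = (1 : C) ⊗ₜ[B] w ∧ w - 1 ∈ I.map (algebraMap B C) := by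
  obtain ⟨w, hw, hw1⟩ := exists_w u hc I hI
  have hpC : p.map (algebraMap B C) ≠ ⊤ := by
    intro h
    apply hp.ne_top
    rw [← Ideal.comap_map_eq_self_of_faithfullyFlat (A := B) (B := C) p, h, Ideal.comap_top]
  have key : ∃ w ∈ L (u : C ⊗[B] C), w - 1 ∈ I.map (algebraMap B C) ∧ w ∉ p.map (algebraMap B C) := by
    by_cases hwp : w ∈ p.map (algebraMap B C)
    · -- `I` is not contained in `p`
      have h1 : ∃ e ∈ I, e ∉ p := by
        by_contra hcon
        push Not at hcon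
        have h2 : w - 1 ∈ p.map (algebraMap B C) := Ideal.map_mono hcon hw1
        apply hpC
        rw [Ideal.eq_top_iff_one]
        have : (1 : C) = w - (w - 1) := by ring
        rw [this]
        exact sub_mem hwp h2
      obtain ⟨e, heI, hep⟩ := h1
      have h2 : ∃ l ∈ L (u : C ⊗[B] C), l ∉ p.map (algebraMap B C) := by
        by_contra hcon
        push Not at hcon
        apply hpC
        rw [Ideal.eq_top_iff_one]
        exact Ideal.span_le.2 (fun l hl => hcon l hl) (one_mem_span u hc)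
      obtain ⟨l, hl, hlp⟩ := h2
      refine ⟨w + e • l, add_mem hw (Submodule.smul_mem _ _ hl), ?_, ?_⟩
      · have : w + e • l - 1 = (w - 1) + algebraMap B C e * l := by rw [Algebra.smul_def]; ring
        rw [this]
        exact add_mem hw1 (Ideal.mul_mem_right _ _ (Ideal.mem_map_of_mem _ heI))
      · intro h
        apply hlp
        apply mem_of_mul_mem p e hep l
        have : algebraMap B C e * l = (w + e • l) - w := by rw [Algebra.smul_def]; ring
        rw [this]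
        exact sub_mem h hwp
    · exact ⟨w, hw, hw1, hwp⟩
  obtain ⟨w, hw, hw1, hwp⟩ := key
  obtain ⟨s, hs, c, hsc⟩ := exists_dvd u w hw p hwp
  exact ⟨s, hs, w, c, hsc.symm, (mem_L _ _).1 hw, hw1⟩

end Groth.Agent.Etdl.H494.H90Alg
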