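import Groth.Agent.Etdl.H494.Rep2
import Groth.Agent.Etdl.H494.Gamma

/-!
# The Abel-Jacobi class and its properties

`exists_alpha`: a section `α` of `J = R^1 pbar_* G_m(m)` over `X` such that relation data give relations, relations
over geometric points come from relation data, and every class of `J` is locally given by a cocycle.
-/

set_option autoImplicit false
universe u
open CategoryTheory CategoryTheory.Limits AlgebraicGeometry Opposite

noncomputable section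

namespace Groth.Agent.Etdl.H494

open Groth.Agent.Etdl.H432.Sec Groth.Agent.Etdl.H432.Un Groth.Agent.Etdl.H432.LS Gamma
open Groth.Agent.Etdl.H432.IQ (Q α β β_α α_injective exists_α)
open Groth.Agent.Etdl.H157.Div (EqnOn)
open Groth.Agent.Etdl.H157.SplitP Groth.Agent.Etdl.H157.PencilA Groth.Agent.Etdl.H157.DivCoc

variable {S P Y X : Scheme.{u}} {pbar : P ⟶ S} {i : Y ⟶ P} {j : X ⟶ P}

/-- The section of `Q` attached to a cocycle. -/
theorem exists_of_coc {T : Over S} (c : Cocycle pbar i T) :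
    ∃ (q : Γs (Q i) (PO pbar T)) (b : ∀ a, Γs (IQ.J i) (opn (PO pbar T) (c.V a)))
      (s : ∀ a b, Γs (F i) (opn (PO pbar T) (c.V a ⊓ c.V b))),
      (∀ a, IsLift q (opnι (PO pbar T) (c.V a)) (b a)) ∧ (∀ a b, val (s a b) = c.u a b) ∧
      ∀ a a', r (IQ.J i) (opnLE inf_le_left) (b a) - r (IQ.J i) (opnLE inf_le_right) (b a') = m (α i) _ (s a a') := by
  have h1 : ∀ a b, ∃ s : Γs (F i) (opn (PO pbar T) (c.V a ⊓ c.V b)), val s = c.u a b :=
    fun a b => exists_val _ (c.isUnit a b) (c.one a b)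
  choose s hs using h1
  obtain ⟨q, b, hb, hd⟩ := exists_of_cocycle (Z := PO pbar T) c.V c.cover s (by
    intro a b d
    apply val_injective
    rw [val_add, val_opnLE, val_opnLE, val_opnLE, hs, hs, hs]
    exact c.cocycle a b d _ inf_le_left (inf_le_right.trans inf_le_left) (inf_le_right.trans inf_le_right))
  exact ⟨q, b, s, hb, hs, hd⟩

theorem rel_one {Z : Over P} {V V' : Z.left.Opens} {A : Γ(Z.left, V)} {A' : Γ(Z.left, V')} {u : Γ(Z.left, V ⊓ V')}
    {s₀ : Γs (F i) (opn Z (V ⊓ V'))} (h : res inf_le_left A = u * res inf_le_right A') (hs : val s₀ = u) :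
    res inf_le_left A * res inf_le_right (1 : Γ(Z.left, V')) =
      val s₀ * (res inf_le_right A' * res inf_le_left (1 : Γ(Z.left, V))) := by
  rw [map_one, map_one, mul_one, mul_one, hs, h]

/-- The cocycle attached to a section of `Q`. -/
theorem exists_coc [IsClosedImmersion i] {T : Over S} (q : Γs (Q i) (PO pbar T)) :
    ∃ (c : Cocycle pbar i T) (b : ∀ a, Γs (IQ.J i) (opn (PO pbar T) (c.V a)))
      (s : ∀ a b, Γs (F i) (opn (PO pbar T) (c.V a ⊓ c.V b))),
      (∀ a, IsLift q (opnι (PO pbar T) (c.V a)) (b a)) ∧ (∀ a b, val (s a b) = c.u a b) ∧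
      ∀ a a', r (IQ.J i) (opnLE inf_le_left) (b a) - r (IQ.J i) (opnLE inf_le_right) (b a') = m (α i) _ (s a a') := by
  have h1 := H90.exists_open_lift q
  choose V hV b hb using h1
  have h2 : ∀ x y, ∃ s : Γs (F i) (opn (PO pbar T) (V x ⊓ V y)),
      r (IQ.J i) (opnLE inf_le_left) (b x) - r (IQ.J i) (opnLE inf_le_right) (b y) = m (α i) _ s :=
    fun x y => exists_sub (IsLift.opnLE (hb x) inf_le_left) (IsLift.opnLE (hb y) inf_le_right)
  choose s hs using h2
  have hone : ∀ x y, ((yinc pbar i T).app (V x ⊓ V y)).hom (val (s x y)) = 1 := fun x y => val_Y (s x y)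
  suffices hcoc : ∀ (x y z : (PO pbar T).left) (W : (PO pbar T).left.Opens) (hx : W ≤ V x) (hy : W ≤ V y) (hz : W ≤ V z),
      res (le_inf hx hy) (val (s x y)) * res (le_inf hy hz) (val (s y z)) = res (le_inf hx hz) (val (s x z)) by
    let c : Cocycle pbar i T :=
      { A := (PO pbar T).left
        V := V
        cover := fun x => ⟨x, hV x⟩
        u := fun x y => val (s x y)
        isUnit := fun x y => val_isUnit _
        one := hone
        cocycle := hcoc }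
    exact ⟨c, b, s, hb, fun _ _ => rfl, hs⟩
  intro x y z W hx hy hz
  have e : r (F i) (opnLE (le_inf hx hy)) (s x y) + r (F i) (opnLE (le_inf hy hz)) (s y z) =
      r (F i) (opnLE (le_inf hx hz)) (s x z) := by
    apply α_injective
    rw [map_add, m_r, m_r, m_r, ← hs, ← hs, ← hs, map_sub, map_sub, map_sub]
    simp only [r_r]
    have e1 : ∀ (V₁ V₂ V₃ : (PO pbar T).left.Opens) (h : V₂ ≤ V₁) (h' : V₃ ≤ V₂),
        opnLE (Z := PO pbar T) h' ≫ opnLE h = opnLE (h'.trans h) := fun V₁ V₂ V₃ h h' => opnMap_comp _ _ _ _ _ _ _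
    simp only [e1]
    abel
  have e2 := congrArg val e
  rw [val_add, val_opnLE, val_opnLE, val_opnLE] at e2
  exact e2

/-- Trivialisations of the cocycle of `q` are representations of `q`. -/
theorem dat_of_triv {T T' : Over S} {q : Γs (Q i) (PO pbar T)} (c : Cocycle pbar i T)
    {b : ∀ a, Γs (IQ.J i) (opn (PO pbar T) (c.V a))}
    {s : ∀ a b, Γs (F i) (opn (PO pbar T) (c.V a ⊓ c.V b))}
    (hb : ∀ a, IsLift q (opnι (PO pbar T) (c.V a)) (b a)) (hs : ∀ a b, val (s a b) = c.u a b)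
    (hd : ∀ a a', r (IQ.J i) (opnLE inf_le_left) (b a) - r (IQ.J i) (opnLE inf_le_right) (b a') = m (α i) _ (s a a'))
    [IsSeparated pbar]
    (h : T' ⟶ T) {m₁ n₁ : ℕ} (σ : Fin m₁ → (T' ⟶ XS pbar j)) (τ : Fin n₁ → (T' ⟶ XS pbar j))
    (ht : (c.pull h).Triv σ τ) :
    Nonempty (Dat (r (Q i) (POm pbar h) q) (famIdeal σ) (famIdeal τ)) := by
  obtain ⟨ι, O, ρ, hρ, A, B, cov, eA, eB, hrel, hY⟩ := ht
  refine ⟨
    { ι := ι
      O := O
      cov := cov
      φ := fun a => r (IQ.J i) (opnMap (POm pbar h) (c.V (ρ a)) (O a) (hρ a)) (b (ρ a))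
      lift := fun a => ?_
      A := A
      B := B
      eA := fun a => (isEqn_iff _ _ _).1 (eA a)
      eB := fun a => (isEqn_iff _ _ _).1 (eB a)
      Y := hY
      rel := ?_ }⟩
  · have h1 := (hb (ρ a)).res (opnMap (POm pbar h) (c.V (ρ a)) (O a) (hρ a))
    rw [opnMap_opnι] at h1
    exact h1.to_r
  · intro a a' W ha ha' t ht
    have hW : W ≤ (POm pbar h).left ⁻¹ᵁ (c.V (ρ a) ⊓ c.V (ρ a')) := fun x hx => ⟨hρ a (ha hx), hρ a' (ha' hx)⟩
    have e : t = r (F i) (opnMap (POm pbar h) (c.V (ρ a) ⊓ c.V (ρ a')) W hW) (s (ρ a) (ρ a')) := by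
      apply α_injective
      rw [← ht, m_r, ← hd, map_sub, r_r, r_r, r_r, r_r, opnMap_comp, opnMap_comp, opnMap_comp, opnMap_comp]
      congr 2
    have e2 : val t = res (le_inf (ha.trans (hρ a)) (ha'.trans (hρ a'))) ((c.pull h).u (ρ a) (ρ a')) := by
      rw [e, val_rs, hs]
      change _ = res _ (((PTmap pbar h).app (c.V (ρ a) ⊓ c.V (ρ a'))).hom (c.u (ρ a) (ρ a')))
      simp only [res]
      rw [← CommRingCat.comp_apply, Scheme.Hom.app_eq_appLE, Scheme.Hom.appLE_map]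
    rw [e2]
    exact hrel a a' W ha ha'

theorem comap_eq_top {W W' : Scheme.{u}} (I : W.IdealSheafData) (f : W' ⟶ W) (h : ∀ x, f x ∉ I.support) :
    I.comap f = ⊤ := by
  refine Groth.Agent.Divis.IdealComap.ext_of_forall_mem fun x => ?_
  obtain ⟨U, hU, hxU, -⟩ := exists_isAffineOpen_mem_and_subset (U := (⊤ : W'.Opens)) (x := x) trivial
  refine ⟨⟨U, hU⟩, hxU, ?_⟩
  rw [Groth.Agent.Etdl.H157.Div.ideal_eq_top_of_disjoint (I.comap f) ⟨U, hU⟩ fun y _ hy => ?_]
  · rfl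
  · rw [Scheme.IdealSheafData.support_comap] at hy
    exact h y hy

section

variable [IsSeparated pbar] [IsOpenImmersion j] [SmoothOfRelativeDimension 1 (j ≫ pbar)]
  (hij : Set.range j.base = (Set.range i.base)ᶜ)

include hij in
omit [IsOpenImmersion j] [SmoothOfRelativeDimension 1 (j ≫ pbar)] in
theorem comap_yinc {T : Over S} {m₁ : ℕ} (σ : Fin m₁ → (T ⟶ XS pbar j)) :
    (famIdeal σ).comap (pullback.fst (PO pbar T).hom i) = ⊤ := by
  apply comap_eq_top
  intro x hx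
  have h1 := support_famIdeal σ hx
  have h2 : pullback.snd T.hom pbar (pullback.fst (PO pbar T).hom i x) ∈ Set.range i.base := by
    refine ⟨pullback.snd (pullback.snd T.hom pbar) i x, ?_⟩
    rw [← Scheme.Hom.comp_apply]
    exact congr($(pullback.condition (f := (pullback.snd T.hom pbar)) (g := i)) x).symm
  have h3 : pullback.snd T.hom pbar (pullback.fst (PO pbar T).hom i x) ∈ (Set.range i.base)ᶜ := by
    rw [← hij]
    exact h1
  exact h3 h2

include hij in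
theorem exists_delta : ∃ q : Γs (Q i) (PO pbar (XS pbar j)),
    Nonempty (Dat q (famIdeal (pbar := pbar) (j := j) ![𝟙 (XS pbar j)]) 1) := by
  have hdis : Disjoint (Set.range j.base) (Set.range i.base) := by
    rw [hij]
    exact disjoint_compl_left
  obtain ⟨O, A, hO, hA, hY⟩ := exists_eqns i hdis (T := XS pbar j) ![𝟙 (XS pbar j)]
  let c := mkCocycle (i := i) ![𝟙 (XS pbar j)] O (fun y => ⟨y, hO y⟩) A hA hY
  obtain ⟨q, b, s, hb, hs, hd⟩ := exists_of_coc c
  refine ⟨q, ⟨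
    { ι := PT pbar (XS pbar j)
      O := O
      cov := fun y => ⟨y, hO y⟩
      φ := b
      lift := hb
      A := A
      B := fun _ => 1
      eA := fun a => (isEqn_iff _ _ _).1 (hA a)
      eB := fun a => EqnOn.one
      Y := fun a => (hY a).trans (map_one _).symm
      rel := ?_ }⟩⟩
  intro a a' W ha ha' t ht
  exact rel_of (hd a a') (rel_one (mkCocycle_spec ![𝟙 (XS pbar j)] O (fun y => ⟨y, hO y⟩) A hA hY a a') (hs a a'))
    W ha ha' t ht

omit [IsOpenImmersion j] [SmoothOfRelativeDimension 1 (j ≫ pbar)] in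
theorem dat_pull {q : Γs (Q i) (PO pbar (XS pbar j))}
    (D : Dat q (famIdeal (pbar := pbar) (j := j) ![𝟙 (XS pbar j)]) 1) {T : Over S} (σ : T ⟶ XS pbar j) :
    Nonempty (Dat (r (Q i) (POm pbar σ) q) (graph σ).ker 1) := by
  have h1 := D.pull (POm pbar σ)
  have h2 : (famIdeal (pbar := pbar) (j := j) ![𝟙 (XS pbar j)]).comap (POm pbar σ).left = (graph σ).ker := by
    refine (famIdeal_comap σ ![𝟙 (XS pbar j)]).trans ?_
    rw [famIdeal]
    simp
  have h3 : (1 : (PO pbar (XS pbar j)).left.IdealSheafData).comap (POm pbar σ).left = 1 := by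
    rw [Scheme.IdealSheafData.one_eq_top, Scheme.IdealSheafData.one_eq_top, Groth.Agent.Etdl.H157.Split.comap_top']
  rw [h2, h3] at h1
  exact ⟨h1⟩

omit [IsOpenImmersion j] [SmoothOfRelativeDimension 1 (j ≫ pbar)] in
theorem dat_sum {q : Γs (Q i) (PO pbar (XS pbar j))}
    (D : Dat q (famIdeal (pbar := pbar) (j := j) ![𝟙 (XS pbar j)]) 1) {T : Over S} {m₁ n₁ : ℕ}
    (σ : Fin m₁ → (T ⟶ XS pbar j)) (τ : Fin n₁ → (T ⟶ XS pbar j)) :
    Nonempty (Dat (∑ a, r (Q i) (POm pbar (σ a)) q - ∑ b, r (Q i) (POm pbar (τ b)) q) (famIdeal σ) (famIdeal τ)) := by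
  obtain ⟨D1⟩ := Dat.nonempty_sum Finset.univ (fun a => r (Q i) (POm pbar (σ a)) q) (fun a => (graph (σ a)).ker)
    (fun _ => 1) (fun a _ => dat_pull D (σ a))
  obtain ⟨D2⟩ := Dat.nonempty_sum Finset.univ (fun a => r (Q i) (POm pbar (τ a)) q) (fun a => (graph (τ a)).ker)
    (fun _ => 1) (fun a _ => dat_pull D (τ a))
  have D3 := D1.add D2.neg
  rw [Finset.prod_const_one, Finset.prod_const_one, mul_one, one_mul, ← sub_eq_add_neg] at D3
  exact ⟨D3⟩

end

/-- The Abel-Jacobi class. -/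
theorem exists_alpha (pbar : P ⟶ S) (i : Y ⟶ P) (j : X ⟶ P) [IsSeparated pbar] [IsOpenImmersion j]
    [SmoothOfRelativeDimension 1 (j ≫ pbar)] [IsClosedImmersion i] (hij : Set.range j.base = (Set.range i.base)ᶜ) :
    ∃ a₀ : ((EtFppf.RpushBig pbar 1).obj (EtDl.GmMod i)).obj.obj (op (XS pbar j)),
      (∀ (T : Over S) (m n : ℕ) (σ : Fin m → (T ⟶ XS pbar j)) (τ : Fin n → (T ⟶ XS pbar j)), RelDatum i σ τ →
        ∑ a, ((EtFppf.RpushBig pbar 1).obj (EtDl.GmMod i)).obj.map (σ a).op a₀ =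
          ∑ b, ((EtFppf.RpushBig pbar 1).obj (EtDl.GmMod i)).obj.map (τ b).op a₀) ∧
      (∀ (Ω : Type u) [Field Ω] [IsAlgClosed Ω] (x : Spec (CommRingCat.of Ω) ⟶ S) (m n : ℕ)
        (σ : Fin m → (Over.mk x ⟶ XS pbar j)) (τ : Fin n → (Over.mk x ⟶ XS pbar j)),
        ∑ a, ((EtFppf.RpushBig pbar 1).obj (EtDl.GmMod i)).obj.map (σ a).op a₀ =
          ∑ b, ((EtFppf.RpushBig pbar 1).obj (EtDl.GmMod i)).obj.map (τ b).op a₀ → RelDatum i σ τ) ∧
      (∀ (T : Over S) (ξ : ((EtFppf.RpushBig pbar 1).obj (EtDl.GmMod i)).obj.obj (op T)) (t : T.left),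
        ∃ (T1 : Over S) (g : T1 ⟶ T), Flat g.left ∧ LocallyOfFinitePresentation g.left ∧ t ∈ Set.range g.left ∧
          ∃ c : Cocycle pbar i T1, ∀ (T2 : Over S) (h : T2 ⟶ T1) (m n : ℕ) (σ : Fin m → (T2 ⟶ XS pbar j))
            (τ : Fin n → (T2 ⟶ XS pbar j)), (c.pull h).Triv σ τ →
            ((EtFppf.RpushBig pbar 1).obj (EtDl.GmMod i)).obj.map h.op
              (((EtFppf.RpushBig pbar 1).obj (EtDl.GmMod i)).obj.map g.op ξ) =
            ∑ a, ((EtFppf.RpushBig pbar 1).obj (EtDl.GmMod i)).obj.map (σ a).op a₀ -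
              ∑ b, ((EtFppf.RpushBig pbar 1).obj (EtDl.GmMod i)).obj.map (τ b).op a₀) := by
  obtain ⟨q, ⟨D⟩⟩ := exists_delta (pbar := pbar) hij
  have hcl : ∀ {T : Over S} (σ : T ⟶ XS pbar j), cl pbar (r (Q i) (POm pbar σ) q) =
      ((EtFppf.RpushBig pbar 1).obj (EtDl.GmMod i)).obj.map σ.op (cl pbar q) := fun σ => cl_r σ q
  have hsum : ∀ {T : Over S} {m n : ℕ} (σ : Fin m → (T ⟶ XS pbar j)) (τ : Fin n → (T ⟶ XS pbar j)),
      cl pbar (∑ a, r (Q i) (POm pbar (σ a)) q - ∑ b, r (Q i) (POm pbar (τ b)) q) =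
        ∑ a, ((EtFppf.RpushBig pbar 1).obj (EtDl.GmMod i)).obj.map (σ a).op (cl pbar q) -
          ∑ b, ((EtFppf.RpushBig pbar 1).obj (EtDl.GmMod i)).obj.map (τ b).op (cl pbar q) := by
    intro T m n σ τ
    rw [map_sub, map_sum, map_sum]
    congr 1
    · exact Finset.sum_congr rfl fun a _ => hcl (σ a)
    · exact Finset.sum_congr rfl fun a _ => hcl (τ a)
  refine ⟨cl pbar q, ?_, ?_, ?_⟩
  · rintro T m n σ τ ⟨ι, O, A, B, cov, eA, eB, hr, hY⟩
    obtain ⟨D1⟩ := dat_sum D σ τ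
    have D0 : Dat (0 : Γs (Q i) (PO pbar T)) (famIdeal σ) (famIdeal τ) :=
      Dat.ofRel cov (fun a => (isEqn_iff _ _ _).1 (eA a)) (fun a => (isEqn_iff _ _ _).1 (eB a)) hY hr
    obtain ⟨b, hb⟩ := D1.uniq D0 (isEff_famIdeal σ) (isEff_famIdeal τ) (comap_yinc hij σ)
    rw [sub_zero] at hb
    rw [← sub_eq_zero, ← hsum, ← hb]
    exact cl_β b
  · intro Ω _ _ x m n σ τ h
    obtain ⟨D1⟩ := dat_sum D σ τ
    rw [← sub_eq_zero, ← hsum] at h
    obtain ⟨b, hb⟩ := exists_of_cl_eq_zero_pt _ h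
    obtain ⟨B', h1, h2, h3⟩ := D1.exists_of_lift b hb
    exact ⟨D1.ι, D1.O, D1.A, B', D1.cov, fun a => (isEqn_iff _ _ _).2 (D1.eA a),
      fun a => (isEqn_iff _ _ _).2 (h1 a), h3, h2⟩
  · intro T ξ t
    obtain ⟨T1, g, q₁, h1, h2, h3, hq₁⟩ := exists_cl ξ t
    obtain ⟨c, b, s, hb, hs, hd⟩ := exists_coc q₁
    refine ⟨T1, g, h1, h2, h3, c, ?_⟩
    intro T2 h m n σ τ ht
    obtain ⟨D0⟩ := dat_of_triv c hb hs hd h σ τ ht
    obtain ⟨D1⟩ := dat_sum D σ τ
    obtain ⟨b', hb'⟩ := D0.uniq D1 (isEff_famIdeal σ) (isEff_famIdeal τ) (comap_yinc hij σ)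
    rw [← hsum, ← sub_eq_zero]
    have e : ((EtFppf.RpushBig pbar 1).obj (EtDl.GmMod i)).obj.map h.op
        (((EtFppf.RpushBig pbar 1).obj (EtDl.GmMod i)).obj.map g.op ξ) = cl pbar (r (Q i) (POm pbar h) q₁) := by
      rw [cl_r, hq₁]
      rfl
    rw [e, ← map_sub, ← hb']
    exact cl_β b'

end Groth.Agent.Etdl.H494

end
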