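import Groth.Agent.Etdl.H494.GmVal
import Groth.Agent.Etdl.H432.LS
import Groth.Agent.CurvesA.Torsor
import Groth.Agent.CohtopA.OverInj

/-!
# From Zariski cocycles to sections of `Q = I / F`

`exists_of_cocycle`: an open cover `V_a` of `Z` and a cocycle `s_ab ∈ F(V_a ∩ V_b)` come from `q ∈ Q(Z)` and local
lifts `b_a ∈ I(V_a)` with `b_a - b_b = α s_ab`.
-/

set_option autoImplicit false
universe u
open CategoryTheory CategoryTheory.Limits AlgebraicGeometry Opposite

noncomputable section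

namespace Groth.Agent.Etdl.H494

open Groth.Agent.Etdl.H432.Sec Groth.Agent.Etdl.H432.Un Groth.Agent.Etdl.H432.IQ Groth.Agent.Etdl.H432.LS

section Inj

theorem exactDiscrete (α : Type u) : HasExactColimitsOfShape (Discrete α) AddCommGrpCat.{u + 1} := by
  have : AB4OfSize.{u + 1} AddCommGrpCat.{u + 1} := AB4.of_AB5 _
  have : AB4OfSize.{u} AddCommGrpCat.{u + 1} := AB4OfSize_shrink.{u, u + 1} _
  infer_instance

variable {P : Scheme.{u}} (I₀ : EtFppf.AbF P) [Injective I₀] (Z : Over P)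

theorem injective_overPresheaf : Injective ((Over.forget Z).op ⋙ I₀.obj : (Over Z)ᵒᵖ ⥤ AddCommGrpCat.{u + 1}) := by
  have := exactDiscrete.{u}
  have h1 : Injective (I₀.over Z) := Groth.Agent.CohtopA.OverInj.injective_over _ I₀
  have : Injective (I₀.over Z).obj := Groth.Agent.CurvesA.Torsor.injective_presheaf (I₀.over Z)
  exact this

end Inj

variable {Y P : Scheme.{u}} {i : Y ⟶ P} {Z : Over P}

/-- The presheaf of indices. -/
def idx {A : Type u} (V : A → Z.left.Opens) : (Over Z)ᵒᵖ ⥤ Type (u + 1) where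
  obj W := ULift.{u + 1} {a : A // ∀ w : W.unop.left.left, W.unop.hom.left w ∈ V a}
  map {W W'} f := ↾fun a => ⟨⟨a.down.1, fun w => by
    have h := a.down.2 (f.unop.left.left w)
    have e : W'.unop.hom = f.unop.left ≫ W.unop.hom := (Over.w f.unop).symm
    rw [e]
    exact h⟩⟩
  map_id _ := rfl
  map_comp _ _ := rfl

theorem r_opnLift_eq {F₀ : EtFppf.AbF P} {V V' : Z.left.Opens} (h : V' ≤ V) (s : Γs F₀ (opn Z V)) {W : Over P}
    (g : W ⟶ Z) (h1 : ∀ w : W.left, g.left w ∈ V) (h2 : ∀ w : W.left, g.left w ∈ V') :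
    r F₀ (opnLift g V h1) s = r F₀ (opnLift g V' h2) (r F₀ (opnLE h) s) := by
  rw [r_r]
  congr 2
  exact opn_hom_ext (by simp)

/-- The difference map of a cocycle. -/
def cocDiff {A : Type u} (V : A → Z.left.Opens) (s : ∀ a b, Γs (F i) (opn Z (V a ⊓ V b)))
    (hs : ∀ (a b c : A), r (F i) (opnLE (Z := Z) (V := V a ⊓ V b) (V' := V a ⊓ (V b ⊓ V c))
          (le_inf inf_le_left (inf_le_right.trans inf_le_left))) (s a b) +
        r (F i) (opnLE (Z := Z) (V := V b ⊓ V c) (V' := V a ⊓ (V b ⊓ V c)) inf_le_right) (s b c) =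
      r (F i) (opnLE (Z := Z) (V := V a ⊓ V c) (V' := V a ⊓ (V b ⊓ V c))
          (le_inf inf_le_left (inf_le_right.trans inf_le_right))) (s a c)) :
    Groth.Agent.CurvesA.Torsor.DiffMap ((Over.forget Z).op ⋙ (F i).obj) (idx V) where
  d W a b := r (F i) (opnLift W.unop.hom (V a.down.1 ⊓ V b.down.1) (fun w => ⟨a.down.2 w, b.down.2 w⟩))
    (s a.down.1 b.down.1)
  d_add W a b c := by
    have h : ∀ w : W.unop.left.left, W.unop.hom.left w ∈ V a.down.1 ⊓ (V b.down.1 ⊓ V c.down.1) :=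
      fun w => ⟨a.down.2 w, b.down.2 w, c.down.2 w⟩
    have e1 := r_opnLift_eq (V' := V a.down.1 ⊓ (V b.down.1 ⊓ V c.down.1))
        (le_inf inf_le_left (inf_le_right.trans inf_le_left)) (s a.down.1 b.down.1) W.unop.hom
        (fun w => ⟨a.down.2 w, b.down.2 w⟩) h
    have e2 := r_opnLift_eq (V' := V a.down.1 ⊓ (V b.down.1 ⊓ V c.down.1)) inf_le_right
        (s b.down.1 c.down.1) W.unop.hom (fun w => ⟨b.down.2 w, c.down.2 w⟩) h
    have e3 := r_opnLift_eq (V' := V a.down.1 ⊓ (V b.down.1 ⊓ V c.down.1))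
        (le_inf inf_le_left (inf_le_right.trans inf_le_right)) (s a.down.1 c.down.1) W.unop.hom
        (fun w => ⟨a.down.2 w, c.down.2 w⟩) h
    refine (congrArg₂ (· + ·) e1 e2).trans (Eq.trans ?_ e3.symm)
    exact (map_add _ _ _).symm.trans (congrArg _ (hs _ _ _))
  d_map {W W'} f a b := by
    refine (r_r (F i) _ _ _).trans (r_congr (F i) (opn_hom_ext ?_) _)
    refine (Category.assoc _ _ _).trans ((congrArg (fun t => f.unop.left ≫ t) (opnLift_opnι W.unop.hom
      (V a.down.1 ⊓ V b.down.1) fun w => ⟨a.down.2 w, b.down.2 w⟩)).trans ?_)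
    exact (Over.w f.unop).trans (opnLift_opnι _ _ _).symm

theorem exists_of_cocycle {A : Type u} (V : A → Z.left.Opens) (hV : ∀ x, ∃ a, x ∈ V a)
    (s : ∀ a b, Γs (F i) (opn Z (V a ⊓ V b)))
    (hs : ∀ (a b c : A), r (F i) (opnLE (Z := Z) (V := V a ⊓ V b) (V' := V a ⊓ (V b ⊓ V c))
          (le_inf inf_le_left (inf_le_right.trans inf_le_left))) (s a b) +
        r (F i) (opnLE (Z := Z) (V := V b ⊓ V c) (V' := V a ⊓ (V b ⊓ V c)) inf_le_right) (s b c) =
      r (F i) (opnLE (Z := Z) (V := V a ⊓ V c) (V' := V a ⊓ (V b ⊓ V c))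
          (le_inf inf_le_left (inf_le_right.trans inf_le_right))) (s a c)) :
    ∃ (q : Γs (Q i) Z) (b : ∀ a, Γs (I i) (opn Z (V a))), (∀ a, IsLift q (opnι Z (V a)) (b a)) ∧
      ∀ a a', r (I i) (opnLE inf_le_left) (b a) - r (I i) (opnLE inf_le_right) (b a') =
        m (α i) _ (s a a') := by
  have hinj := injective_overPresheaf (I i) Z
  obtain ⟨φ, hφ, hd⟩ := Groth.Agent.CurvesA.Torsor.exists_toInjective (cocDiff V s hs)
    (Functor.whiskerLeft (Over.forget Z).op (α i).hom)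
  let p (a : A) (O : Z.left.Opens) (h : O ≤ V a) : (idx V).obj (op (Over.mk (opnι Z O))) :=
    ⟨⟨a, fun w => h w.2⟩⟩
  let b (a : A) : Γs (I i) (opn Z (V a)) := φ (op (Over.mk (opnι Z (V a)))) (p a (V a) le_rfl)
  have hb : ∀ (a : A) (O : Z.left.Opens) (h : O ≤ V a),
      r (I i) (opnLE h) (b a) = φ (op (Over.mk (opnι Z O))) (p a O h) := by
    intro a O h
    let f : Over.mk (opnι Z O) ⟶ Over.mk (opnι Z (V a)) := Over.homMk (opnLE h) (by simp)
    exact (hφ f.op (p a (V a) le_rfl)).symm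
  have key : ∀ a a', r (I i) (opnLE inf_le_left) (b a) - r (I i) (opnLE inf_le_right) (b a') =
        m (α i) _ (s a a') := by
    intro a a'
    rw [hb, hb]
    refine (hd (op (Over.mk (opnι Z (V a ⊓ V a')))) (p a _ inf_le_left) (p a' _ inf_le_right)).trans ?_
    change m (α i) _ (r (F i) _ _) = _
    have e : opnLift (opnι Z (V a ⊓ V a')) (V a ⊓ V a') (fun w => w.2) = 𝟙 _ := opn_hom_ext (by simp)
    change m (α i) _ (r (F i) (opnLift (opnι Z (V a ⊓ V a')) (V a ⊓ V a') (fun w => w.2)) (s a a')) = _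
    rw [e, r_id]
  obtain ⟨q, hq⟩ := glueOpen (Q i) V hV (fun a => m (β i) _ (b a)) (by
    intro a a'
    rw [← m_r, ← m_r, ← sub_eq_zero, ← map_sub, key, β_α])
  exact ⟨q, b, fun a => (hq a).symm, key⟩

end Groth.Agent.Etdl.H494

end
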