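import Groth.Agent.Etdl.H432.Sec

/-!
# Open subschemes as objects of the big fppf site, gluing of sections

* `opn Z V`: the open subscheme `V` of `Z.left`, as an object over `P`.
* `opnMap k V V' h : opn Z' V' ⟶ opn Z V` for `k : Z' ⟶ Z` and `V' ≤ k⁻¹ V`.
* `glueOpen`: gluing of sections of an fppf sheaf along an open cover; `eq_of_openCover`.
-/

set_option autoImplicit false
universe u
open CategoryTheory CategoryTheory.Limits AlgebraicGeometry Opposite

noncomputable section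

namespace Groth.Agent.Etdl.H494

open Groth.Agent.Etdl.H432.Sec

variable {P : Scheme.{u}}

/-- The open subscheme `V` of `Z`, as an object over `P`. -/
abbrev opn (Z : Over P) (V : Z.left.Opens) : Over P := Over.mk (V.ι ≫ Z.hom)

/-- The inclusion of an open subscheme. -/
def opnι (Z : Over P) (V : Z.left.Opens) : opn Z V ⟶ Z := Over.homMk V.ι rfl

/-- Restriction of a morphism to open subschemes. -/
def opnMap {Z Z' : Over P} (k : Z' ⟶ Z) (V : Z.left.Opens) (V' : Z'.left.Opens) (h : V' ≤ k.left ⁻¹ᵁ V) :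
    opn Z' V' ⟶ opn Z V :=
  Over.homMk (k.left.resLE V V' h) (by
    change k.left.resLE V V' h ≫ V.ι ≫ Z.hom = V'.ι ≫ Z'.hom
    rw [Scheme.Hom.resLE_comp_ι_assoc, Over.w k])

@[reassoc (attr := simp)]
theorem opnMap_opnι {Z Z' : Over P} (k : Z' ⟶ Z) (V : Z.left.Opens) (V' : Z'.left.Opens)
    (h : V' ≤ k.left ⁻¹ᵁ V) : opnMap k V V' h ≫ opnι Z V = opnι Z' V' ≫ k := by
  ext : 1
  exact Scheme.Hom.resLE_comp_ι _ _

@[reassoc (attr := simp)]
theorem opnMap_comp {Z Z' Z'' : Over P} (k : Z' ⟶ Z) (k' : Z'' ⟶ Z') (V : Z.left.Opens) (V' : Z'.left.Opens)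
    (V'' : Z''.left.Opens) (h : V' ≤ k.left ⁻¹ᵁ V) (h' : V'' ≤ k'.left ⁻¹ᵁ V') :
    opnMap k' V' V'' h' ≫ opnMap k V V' h =
      opnMap (k' ≫ k) V V'' (fun x hx => h (h' hx)) := by
  ext : 1
  exact Scheme.Hom.resLE_comp_resLE _ _ _ _

/-- Restriction to a smaller open subscheme. -/
abbrev opnLE {Z : Over P} {V V' : Z.left.Opens} (h : V' ≤ V) : opn Z V' ⟶ opn Z V :=
  opnMap (𝟙 Z) V V' h

theorem mono_opnι (Z : Over P) (V : Z.left.Opens) : Mono (opnι Z V) := by
  have : Mono (opnι Z V).left := inferInstanceAs (Mono V.ι)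
  exact Over.mono_of_mono_left _

@[reassoc (attr := simp)]
theorem opnLE_opnι {Z : Over P} {V V' : Z.left.Opens} (h : V' ≤ V) : opnLE h ≫ opnι Z V = opnι Z V' := by
  rw [opnMap_opnι, Category.comp_id]

/-- A morphism factoring through an open subscheme. -/
def opnLift {Z W : Over P} (g : W ⟶ Z) (V : Z.left.Opens) (h : ∀ w : W.left, g.left w ∈ V) : W ⟶ opn Z V :=
  Over.homMk (IsOpenImmersion.lift V.ι g.left (by
    rintro _ ⟨w, rfl⟩
    rw [Scheme.Opens.range_ι]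
    exact h w)) (by
    change IsOpenImmersion.lift _ _ _ ≫ V.ι ≫ Z.hom = W.hom
    rw [IsOpenImmersion.lift_fac_assoc, Over.w g])

@[reassoc (attr := simp)]
theorem opnLift_opnι {Z W : Over P} (g : W ⟶ Z) (V : Z.left.Opens) (h : ∀ w : W.left, g.left w ∈ V) :
    opnLift g V h ≫ opnι Z V = g := by
  ext : 1
  exact IsOpenImmersion.lift_fac _ _ _

theorem opn_hom_ext {Z W : Over P} {V : Z.left.Opens} {a b : W ⟶ opn Z V}
    (h : a ≫ opnι Z V = b ≫ opnι Z V) : a = b := by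
  have := mono_opnι Z V
  exact (cancel_mono _).1 h

/-- An open cover is a covering family. -/
theorem isCov_opn {Z : Over P} {ι : Type*} (O : ι → Z.left.Opens) (hO : ∀ x, ∃ a, x ∈ O a) :
    IsCov (fun a => opnι Z (O a)) := by
  intro x
  obtain ⟨a, ha⟩ := hO x
  exact ⟨a, inferInstanceAs (Flat (O a).ι), inferInstanceAs (LocallyOfFinitePresentation (O a).ι), ⟨x, ha⟩, rfl⟩

theorem eq_of_openCover (F : EtFppf.AbF P) {Z : Over P} {ι : Type*} (O : ι → Z.left.Opens)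
    (hO : ∀ x, ∃ a, x ∈ O a) (s t : Γs F Z)
    (h : ∀ a, r F (opnι Z (O a)) s = r F (opnι Z (O a)) t) : s = t :=
  sep F (isCov_opn O hO) s t h

/-- Gluing along an open cover. -/
theorem glueOpen (F : EtFppf.AbF P) {Z : Over P} {ι : Type*} (O : ι → Z.left.Opens)
    (hO : ∀ x, ∃ a, x ∈ O a) (s : ∀ a, Γs F (opn Z (O a)))
    (hs : ∀ a b, r F (opnLE (inf_le_left : O a ⊓ O b ≤ O a)) (s a) =
      r F (opnLE (inf_le_right : O a ⊓ O b ≤ O b)) (s b)) :
    ∃ t : Γs F Z, ∀ a, r F (opnι Z (O a)) t = s a := by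
  refine glue F (isCov_opn O hO) s fun a b W x y h => ?_
  have hx : ∀ w : W.left, (x ≫ opnι Z (O a)).left w ∈ O a ⊓ O b := by
    intro w
    refine ⟨(x.left w).2, ?_⟩
    rw [h]
    exact (y.left w).2
  have e1 : x = opnLift (x ≫ opnι Z (O a)) (O a ⊓ O b) hx ≫
      opnLE (inf_le_left : O a ⊓ O b ≤ O a) := opn_hom_ext (by simp)
  have e2 : y = opnLift (x ≫ opnι Z (O a)) (O a ⊓ O b) hx ≫
      opnLE (inf_le_right : O a ⊓ O b ≤ O b) := opn_hom_ext (by simp [h])
  conv_lhs => rw [e1]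
  conv_rhs => rw [e2]
  rw [← r_r, ← r_r, hs]

end Groth.Agent.Etdl.H494

end
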