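import Groth.Agent.Etdl.H494.OfCocycle
import Groth.Agent.Etdl.H157.DivCoc

/-!
# Sections of `Q = I / F` represented by equations of divisors

`Dat q 𝓘 𝓙`: open cover `O_a`, lifts `φ_a` of `q`, equations `A_a` of `𝓘`, `B_a` of `𝓙`, `A_a = B_a` on `Y`, and
`A_a B_b = u_ab A_b B_a` where `φ_a - φ_b = α u_ab`.
-/

set_option autoImplicit false
universe u
open CategoryTheory CategoryTheory.Limits AlgebraicGeometry Opposite

noncomputable section

namespace Groth.Agent.Etdl.H494

open Groth.Agent.Etdl.H432.Sec Groth.Agent.Etdl.H432.Un Groth.Agent.Etdl.H432.LS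
open Groth.Agent.Etdl.H432.IQ (Q α β β_α α_injective exists_α)
open Groth.Agent.Etdl.H157.Div (EqnOn)
open Groth.Agent.Etdl.H157.PencilA Groth.Agent.Etdl.H157.DivCoc

/-- The injective sheaf. -/
abbrev IQ.J {X Y : Scheme.{u}} (i : Y ⟶ X) : EtFppf.AbF X := Groth.Agent.Etdl.H432.IQ.I i

variable {Y P : Scheme.{u}} {i : Y ⟶ P} {Z Z' : Over P}

theorem val_opnLE {V V' : Z.left.Opens} (h : V' ≤ V) (s : Γs (F i) (opn Z V)) :
    val (r (F i) (opnLE h) s) = res h (val s) := by
  rw [val_rs]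
  congr 1

theorem val_neg_mul {V : Z.left.Opens} (s : Γs (F i) (opn Z V)) : val (-s) * val s = 1 := by
  rw [← val_add, neg_add_cancel, val_zero]

theorem res_res' {W : Scheme.{u}} {U V O : W.Opens} (h : U ≤ V) (h' : V ≤ O) (A : Γ(W, O)) :
    res h (res h' A) = res (h.trans h') A := Groth.Agent.Etdl.H157.Div.res_res h h' A

theorem EqnOn.mul {W : Scheme.{u}} {I J : W.IdealSheafData} {O : W.Opens} {A B : Γ(W, O)} (hA : EqnOn I O A)
    (hB : EqnOn J O B) : EqnOn (I * J) O (A * B) := by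
  intro U hU
  rw [Scheme.IdealSheafData.ideal_mul, Pi.mul_apply, hA U hU, hB U hU, Ideal.span_singleton_mul_span_singleton, map_mul]

theorem EqnOn.one {W : Scheme.{u}} {O : W.Opens} : EqnOn (1 : W.IdealSheafData) O 1 := by
  intro U hU
  rw [map_one, Ideal.span_singleton_one, Scheme.IdealSheafData.one_eq_top]
  rfl

theorem EqnOn.unit_mul {W : Scheme.{u}} {I : W.IdealSheafData} {O : W.Opens} {A w : Γ(W, O)} (hA : EqnOn I O A)
    (hw : IsUnit w) : EqnOn I O (w * A) := by
  intro U hU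
  rw [hA U hU, map_mul, Ideal.span_singleton_mul_left_unit (hw.map _)]

variable (i) in
/-- `f = g` on `Y`. -/
def EqY (V : Z.left.Opens) (f g : Γ(Z.left, V)) : Prop :=
  ((pullback.fst Z.hom i).app V).hom f = ((pullback.fst Z.hom i).app V).hom g

theorem EqY.mul {V : Z.left.Opens} {f g f' g' : Γ(Z.left, V)} (h : EqY i V f g) (h' : EqY i V f' g') :
    EqY i V (f * f') (g * g') := by
  rw [EqY, map_mul, map_mul, h, h']

theorem app_res {A B : Scheme.{u}} (f : A ⟶ B) {V V' : B.Opens} (h : V' ≤ V) (u : Γ(B, V)) :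
    (f.app V').hom (res h u) = res (Z := A) (show f ⁻¹ᵁ V' ≤ f ⁻¹ᵁ V from fun _ hx => h hx) ((f.app V).hom u) := by
  simp only [res]
  rw [← CommRingCat.comp_apply, Scheme.Hom.naturality]
  rfl

theorem EqY.res {V V' : Z.left.Opens} {f g : Γ(Z.left, V)} (h : EqY i V f g) (hV : V' ≤ V) :
    EqY i V' (H494.res hV f) (H494.res hV g) := by
  rw [EqY, app_res, app_res, h]

theorem EqY.val {V : Z.left.Opens} (s : Γs (F i) (opn Z V)) : EqY i V (H494.val s) 1 := by
  rw [EqY, val_Y, map_one]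

theorem exists_val' {V : Z.left.Opens} (u : Γ(Z.left, V)) (hu : IsUnit u) (hY : EqY i V u 1) :
    ∃ s : Γs (F i) (opn Z V), H494.val s = u :=
  exists_val u hu (hY.trans (map_one _))

/-- Representation of `q ∈ Q(Z)` by local equations. -/
structure Dat (q : Γs (Q i) Z) (I J : Z.left.IdealSheafData) where
  /-- index set -/
  ι : Type u
  /-- open cover -/
  O : ι → Z.left.Opens
  cov : ∀ x : Z.left, ∃ a, x ∈ O a
  /-- lifts of `q` -/
  φ : ∀ a, Γs (IQ.J i) (opn Z (O a))
  lift : ∀ a, IsLift q (opnι Z (O a)) (φ a)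
  /-- equations of `I` -/
  A : ∀ a, Γ(Z.left, O a)
  /-- equations of `J` -/
  B : ∀ a, Γ(Z.left, O a)
  eA : ∀ a, EqnOn I (O a) (A a)
  eB : ∀ a, EqnOn J (O a) (B a)
  Y : ∀ a, EqY i (O a) (A a) (B a)
  rel : ∀ (a b : ι) (W : Z.left.Opens) (ha : W ≤ O a) (hb : W ≤ O b) (s : Γs (F i) (opn Z W)),
    r (IQ.J i) (opnLE ha) (φ a) - r (IQ.J i) (opnLE hb) (φ b) = m (α i) _ s →
    res ha (A a) * res hb (B b) = val s * (res hb (A b) * res ha (B a))

variable {q q' : Γs (Q i) Z} {I J I' J' : Z.left.IdealSheafData}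

theorem IsLift.opnLE {V V' : Z.left.Opens} {b : Γs (IQ.J i) (opn Z V)} (hb : IsLift q (opnι Z V) b) (h : V' ≤ V) :
    IsLift q (opnι Z V') (r (IQ.J i) (opnLE h) b) := IsLift.res' hb _ (by simp)

/-- Two lifts differ by a section of `F`. -/
theorem exists_sub {U : Over P} {g : U ⟶ Z} {b b' : Γs (IQ.J i) U} (h : IsLift q g b) (h' : IsLift q g b') :
    ∃ s : Γs (F i) U, b - b' = m (α i) U s :=
  ⟨(h'.diff h), by rw [sub_eq_iff_eq_add']; exact h'.diff_spec h⟩

/-- The relation for all smaller opens follows from the one on the intersection. -/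
theorem rel_of {V V' : Z.left.Opens} {b : Γs (IQ.J i) (opn Z V)} {b' : Γs (IQ.J i) (opn Z V')}
    {A B : Γ(Z.left, V)} {A' B' : Γ(Z.left, V')} {s₀ : Γs (F i) (opn Z (V ⊓ V'))}
    (h₀ : r (IQ.J i) (opnLE inf_le_left) b - r (IQ.J i) (opnLE inf_le_right) b' = m (α i) _ s₀)
    (h₁ : res inf_le_left A * res inf_le_right B' = val s₀ * (res inf_le_right A' * res inf_le_left B))
    (W : Z.left.Opens) (h : W ≤ V) (h' : W ≤ V') (s : Γs (F i) (opn Z W))
    (hs : r (IQ.J i) (opnLE h) b - r (IQ.J i) (opnLE h') b' = m (α i) _ s) :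
    res h A * res h' B' = val s * (res h' A' * res h B) := by
  have e : s = r (F i) (opnLE (le_inf h h')) s₀ := by
    apply α_injective
    rw [← hs, m_r, ← h₀, map_sub, r_r, r_r, opnMap_comp, opnMap_comp]
    rfl
  have h2 := congrArg (res (le_inf h h')) h₁
  rw [map_mul, map_mul, map_mul, res_res', res_res', res_res', res_res', ← val_opnLE, ← e] at h2
  exact h2

namespace Dat

/-- Sum. -/
def add (D : Dat q I J) (D' : Dat q' I' J') : Dat (q + q') (I * I') (J * J') where
  ι := D.ι × D'.ι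
  O p := D.O p.1 ⊓ D'.O p.2
  cov x := by
    obtain ⟨a, ha⟩ := D.cov x
    obtain ⟨b, hb⟩ := D'.cov x
    exact ⟨(a, b), ha, hb⟩
  φ p := r (IQ.J i) (opnLE inf_le_left) (D.φ p.1) + r (IQ.J i) (opnLE inf_le_right) (D'.φ p.2)
  lift p := (IsLift.opnLE (D.lift p.1) inf_le_left).add (IsLift.opnLE (D'.lift p.2) inf_le_right)
  A p := res inf_le_left (D.A p.1) * res inf_le_right (D'.A p.2)
  B p := res inf_le_left (D.B p.1) * res inf_le_right (D'.B p.2)
  eA p := EqnOn.mul ((D.eA p.1).res inf_le_left) ((D'.eA p.2).res inf_le_right)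
  eB p := EqnOn.mul ((D.eB p.1).res inf_le_left) ((D'.eB p.2).res inf_le_right)
  Y p := ((D.Y p.1).res inf_le_left).mul ((D'.Y p.2).res inf_le_right)
  rel p p' W h h' s hs := by
    have h1 : W ≤ D.O p.1 := h.trans inf_le_left
    have h2 : W ≤ D'.O p.2 := h.trans inf_le_right
    have h1' : W ≤ D.O p'.1 := h'.trans inf_le_left
    have h2' : W ≤ D'.O p'.2 := h'.trans inf_le_right
    obtain ⟨s1, hs1⟩ := exists_sub (IsLift.opnLE (D.lift p.1) h1) (IsLift.opnLE (D.lift p'.1) h1')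
    obtain ⟨s2, hs2⟩ := exists_sub (IsLift.opnLE (D'.lift p.2) h2) (IsLift.opnLE (D'.lift p'.2) h2')
    have e : s = s1 + s2 := by
      apply α_injective
      rw [← hs, map_add (m (α i) (opn Z W)), ← hs1, ← hs2, map_add, map_add, r_r, r_r, r_r, r_r]
      simp only [opnMap_comp, Category.comp_id]
      abel
    have r1 := D.rel p.1 p'.1 W h1 h1' s1 hs1
    have r2 := D'.rel p.2 p'.2 W h2 h2' s2 hs2
    rw [e, val_add]
    simp only [map_mul, res_res']
    linear_combination (res h2 (D'.A p.2) * res h2' (D'.B p'.2)) * r1 +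
      (val s1 * (res h1' (D.A p'.1) * res h1 (D.B p.1))) * r2

/-- Opposite. -/
def neg (D : Dat q I J) : Dat (-q) J I where
  ι := D.ι
  O := D.O
  cov := D.cov
  φ a := - D.φ a
  lift a := by
    rw [IsLift, map_neg, map_neg, D.lift a]
  A := D.B
  B := D.A
  eA := D.eB
  eB := D.eA
  Y a := (D.Y a).symm
  rel a b W ha hb s hs := by
    have h := D.rel a b W ha hb (-s) (by rw [map_neg, ← hs, map_neg, map_neg]; abel)
    have h2 := val_neg_mul (i := i) s
    linear_combination (-(val s)) * h - (res hb (D.A b) * res ha (D.B a)) * h2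

/-- Zero. -/
def zero : Dat (0 : Γs (Q i) Z) 1 1 where
  ι := PUnit
  O _ := ⊤
  cov x := ⟨⟨⟩, trivial⟩
  φ _ := 0
  lift _ := by rw [IsLift, map_zero, map_zero]
  A _ := 1
  B _ := 1
  eA _ := EqnOn.one
  eB _ := EqnOn.one
  Y _ := rfl
  rel a b W ha hb s hs := by
    have e : s = 0 := by
      apply α_injective
      rw [← hs]
      simp
    rw [e, val_zero]
    simp

theorem nonempty_sum {κ : Type*} (t : Finset κ) (q : κ → Γs (Q i) Z) (I J : κ → Z.left.IdealSheafData)
    (h : ∀ a ∈ t, Nonempty (Dat (q a) (I a) (J a))) :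
    Nonempty (Dat (∑ a ∈ t, q a) (∏ a ∈ t, I a) (∏ a ∈ t, J a)) := by
  classical
  induction t using Finset.induction_on with
  | empty =>
    rw [Finset.sum_empty, Finset.prod_empty, Finset.prod_empty]
    exact ⟨zero⟩
  | insert a t ha ih =>
    obtain ⟨D⟩ := h a (Finset.mem_insert_self _ _)
    obtain ⟨D'⟩ := ih fun b hb => h b (Finset.mem_insert_of_mem hb)
    rw [Finset.sum_insert ha, Finset.prod_insert ha, Finset.prod_insert ha]
    exact ⟨D.add D'⟩

end Dat

end Groth.Agent.Etdl.H494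

end
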