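import Groth.Agent.Etdl.H494.Rep
import Groth.Agent.Etdl.H494.H90

/-!
# Calculus of representations: pull back, uniqueness, triviality
-/

set_option autoImplicit false
universe u
open CategoryTheory CategoryTheory.Limits AlgebraicGeometry Opposite

noncomputable section

namespace Groth.Agent.Etdl.H494

open Groth.Agent.Etdl.H432.Sec Groth.Agent.Etdl.H432.Un Groth.Agent.Etdl.H432.LS
open Groth.Agent.Etdl.H432.IQ (Q α β β_α α_injective exists_α)
open Groth.Agent.Etdl.H157.Div (EqnOn)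
open Groth.Agent.Etdl.H157.PencilA Groth.Agent.Etdl.H157.DivCoc

variable {Y P : Scheme.{u}} {i : Y ⟶ P} {Z Z' : Over P}
variable {q q' : Γs (Q i) Z} {I J I' J' : Z.left.IdealSheafData}

theorem EqY.pull {V : Z.left.Opens} {f g : Γ(Z.left, V)} (h : EqY i V f g) (k : Z' ⟶ Z) :
    EqY i (k.left ⁻¹ᵁ V) ((k.left.app V).hom f) ((k.left.app V).hom g) := by
  have e : pullback.fst Z'.hom i ≫ k.left = mapY i k ≫ pullback.fst Z.hom i := (mapY_fst i k).symm
  have h2 : ((mapY i k ≫ pullback.fst Z.hom i).app V).hom f = ((mapY i k ≫ pullback.fst Z.hom i).app V).hom g := by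
    rw [← app_app_apply, h, app_app_apply]
  rw [EqY, app_app_apply, app_app_apply]
  exact app_eq_congr e.symm _ _ _ h2

theorem appLE_res {A B : Scheme.{u}} (f : A ⟶ B) {V V' : B.Opens} (h : V' ≤ V) (W : A.Opens) (hW : W ≤ f ⁻¹ᵁ V')
    (u : Γ(B, V)) : (f.appLE V' W hW).hom (res h u) =
      res (show W ≤ f ⁻¹ᵁ V from fun _ hx => h (hW hx)) ((f.app V).hom u) := by
  simp only [res]
  rw [← CommRingCat.comp_apply, ← CommRingCat.comp_apply, Scheme.Hom.map_appLE, Scheme.Hom.app_eq_appLE,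
    Scheme.Hom.appLE_map]

namespace Dat

/-- Pull back. -/
def pull (D : Dat q I J) (k : Z' ⟶ Z) : Dat (r (Q i) k q) (I.comap k.left) (J.comap k.left) where
  ι := D.ι
  O a := k.left ⁻¹ᵁ D.O a
  cov x := D.cov (k.left x)
  φ a := r (IQ.J i) (opnMap k (D.O a) (k.left ⁻¹ᵁ D.O a) le_rfl) (D.φ a)
  lift a := by
    have h := (D.lift a).res (opnMap k (D.O a) (k.left ⁻¹ᵁ D.O a) le_rfl)
    rw [opnMap_opnι] at h
    exact h.to_r
  A a := (k.left.app (D.O a)).hom (D.A a)
  B a := (k.left.app (D.O a)).hom (D.B a)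
  eA a := (D.eA a).comap k.left
  eB a := (D.eB a).comap k.left
  Y a := (D.Y a).pull k
  rel a b W ha hb s hs := by
    obtain ⟨s₀, hs₀⟩ := exists_sub (IsLift.opnLE (D.lift a) (inf_le_left : D.O a ⊓ D.O b ≤ D.O a))
      (IsLift.opnLE (D.lift b) (inf_le_right : D.O a ⊓ D.O b ≤ D.O b))
    have hW : W ≤ k.left ⁻¹ᵁ (D.O a ⊓ D.O b) := fun x hx => ⟨ha hx, hb hx⟩
    have e : s = r (F i) (opnMap k (D.O a ⊓ D.O b) W hW) s₀ := by
      apply α_injective
      rw [← hs, m_r, ← hs₀, map_sub, r_r, r_r, r_r, r_r, opnMap_comp, opnMap_comp, opnMap_comp, opnMap_comp]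
      congr 2
    have h := congrArg (k.left.appLE (D.O a ⊓ D.O b) W hW).hom (D.rel a b (D.O a ⊓ D.O b) inf_le_left inf_le_right s₀ hs₀)
    rw [map_mul, map_mul, map_mul, appLE_res, appLE_res, appLE_res, appLE_res, ← val_rs, ← e] at h
    exact h

/-- Representation of zero by a relation. -/
def ofRel {ι : Type u} {O : ι → Z.left.Opens} (cov : ∀ x : Z.left, ∃ a, x ∈ O a) {A B : ∀ a, Γ(Z.left, O a)}
    (eA : ∀ a, EqnOn I (O a) (A a)) (eB : ∀ a, EqnOn J (O a) (B a)) (hY : ∀ a, EqY i (O a) (A a) (B a))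
    (hr : ∀ (a b : ι) (W : Z.left.Opens) (ha : W ≤ O a) (hb : W ≤ O b),
      res ha (A a) * res hb (B b) = res hb (A b) * res ha (B a)) : Dat (0 : Γs (Q i) Z) I J where
  ι := ι
  O := O
  cov := cov
  φ _ := 0
  lift _ := by rw [IsLift, map_zero, map_zero]
  A := A
  B := B
  eA := eA
  eB := eB
  Y := hY
  rel a b W ha hb s hs := by
    have e : s = 0 := by
      apply α_injective
      rw [← hs]
      simp
    rw [e, val_zero, one_mul]
    exact hr a b W ha hb

/-- If `q` lifts to `I` then the representation is one of zero. -/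
theorem exists_of_lift (D : Dat q I J) (b : Γs (IQ.J i) Z) (hb : m (β i) Z b = q) :
    ∃ B' : ∀ a, Γ(Z.left, D.O a), (∀ a, EqnOn J (D.O a) (B' a)) ∧ (∀ a, EqY i (D.O a) (D.A a) (B' a)) ∧
      ∀ (a b : D.ι) (W : Z.left.Opens) (ha : W ≤ D.O a) (hb : W ≤ D.O b),
        res ha (D.A a) * res hb (B' b) = res hb (D.A b) * res ha (B' a) := by
  have h1 : ∀ a, ∃ w : Γs (F i) (opn Z (D.O a)), D.φ a - r (IQ.J i) (opnι Z (D.O a)) b = m (α i) _ w :=
    fun a => exists_sub (D.lift a) (isLift_of hb (opnι Z (D.O a)))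
  choose w hw using h1
  refine ⟨fun a => val (w a) * D.B a, fun a => EqnOn.unit_mul (D.eB a) (val_isUnit _), fun a => ?_, ?_⟩
  · have h2 := (EqY.val (w a)).mul (D.Y a).symm
    rw [one_mul] at h2
    exact h2.symm
  · intro a c W ha hc
    have h3 := D.rel a c W ha hc (r (F i) (opnLE ha) (w a) - r (F i) (opnLE hc) (w c)) (by
      rw [map_sub, m_r, m_r, ← hw, ← hw, map_sub, map_sub, r_r, r_r, opnLE_opnι, opnLE_opnι]
      abel)
    have h4 : val (r (F i) (opnLE ha) (w a) - r (F i) (opnLE hc) (w c)) * val (r (F i) (opnLE hc) (w c)) =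
        val (r (F i) (opnLE ha) (w a)) := by
      rw [← val_add, sub_add_cancel]
    rw [map_mul, map_mul, ← val_opnLE, ← val_opnLE]
    linear_combination (val (r (F i) (opnLE hc) (w c))) * h3 + (res hc (D.A c) * res ha (D.B a)) * h4

end Dat

theorem isUnit_of_eqnOn_top {W : Scheme.{u}} {O : W.Opens} {A : Γ(W, O)} (h : EqnOn (⊤ : W.IdealSheafData) O A) :
    IsUnit A := by
  apply H90.isUnit_of_basicOpen
  intro x hx
  obtain ⟨U, hU, hxU, hUO⟩ := exists_isAffineOpen_mem_and_subset (U := O) (x := x) hx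
  have h1 := h ⟨U, hU⟩ hUO
  have h2 : IsUnit (res hUO A) := Ideal.span_singleton_eq_top.1 h1.symm
  have h3 := W.basicOpen_of_isUnit h2
  rw [Scheme.basicOpen_res] at h3
  have h4 : x ∈ U ⊓ W.basicOpen A := by
    rw [h3]
    exact hxU
  exact h4.2

/-- Two equations of the same divisor which agree on `Y`. -/
theorem EqY.of_mul {V : Z.left.Opens} {A B A' B' x y : Γ(Z.left, V)}
    (hIY : I.comap (pullback.fst Z.hom i) = ⊤) (eA' : EqnOn I V A') (h : EqY i V A B) (h' : EqY i V A' B')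
    (hx : A = x * A') (hy : B = y * B') : EqY i V x y := by
  have h1 : IsUnit (((pullback.fst Z.hom i).app V).hom A') := by
    have h2 := eA'.comap (pullback.fst Z.hom i)
    rw [hIY] at h2
    exact isUnit_of_eqnOn_top h2
  have h3 : ((pullback.fst Z.hom i).app V).hom A = ((pullback.fst Z.hom i).app V).hom B := h
  have h4 : ((pullback.fst Z.hom i).app V).hom A' = ((pullback.fst Z.hom i).app V).hom B' := h'
  rw [hx, hy, map_mul, map_mul, ← h4] at h3
  exact h1.mul_right_cancel h3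

theorem exists_unit_val {V : Z.left.Opens} {x y : Γ(Z.left, V)} (hx : IsUnit x) (hy : IsUnit y) (h : EqY i V x y) :
    ∃ s : Γs (F i) (opn Z V), val s * y = x := by
  obtain ⟨y', rfl⟩ := hy
  obtain ⟨s, hs⟩ := exists_val' (i := i) (Z := Z) (V := V) (x * ((y'⁻¹ : (Γ(Z.left, V))ˣ) : Γ(Z.left, V)))
    (hx.mul (Units.isUnit _)) (by
      have h1 := h.mul (rfl : EqY i V (((y'⁻¹ : (Γ(Z.left, V))ˣ) : Γ(Z.left, V))) _)
      rw [Units.mul_inv] at h1
      exact h1)
  refine ⟨s, ?_⟩
  rw [hs, mul_assoc, Units.inv_mul, mul_one]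

/-- Uniqueness: two sections of `Q` represented by equations of the same divisors differ by a section of `I`. -/
theorem Dat.uniq (D : Dat q I J) (D' : Dat q' I J) (hI : BlowUp.IsEffCartierIdeal I)
    (hJ : BlowUp.IsEffCartierIdeal J) (hIY : I.comap (pullback.fst Z.hom i) = ⊤) :
    ∃ b : Γs (IQ.J i) Z, m (β i) Z b = q - q' := by
  let W (p : D.ι × D'.ι) : Z.left.Opens := D.O p.1 ⊓ D'.O p.2
  have hW : ∀ x : Z.left, ∃ p, x ∈ W p := by
    intro x
    obtain ⟨a, ha⟩ := D.cov x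
    obtain ⟨b, hb⟩ := D'.cov x
    exact ⟨(a, b), ha, hb⟩
  have h1 : ∀ p : D.ι × D'.ι, ∃ (x y : Γ(Z.left, W p)) (s : Γs (F i) (opn Z (W p))), IsUnit y ∧
      res inf_le_left (D.A p.1) = x * res inf_le_right (D'.A p.2) ∧
      res inf_le_left (D.B p.1) = y * res inf_le_right (D'.B p.2) ∧ val s * y = x := by
    intro p
    obtain ⟨x, hx, hx'⟩ := exists_unit hI ((D.eA p.1).res (inf_le_left : W p ≤ D.O p.1))
      ((D'.eA p.2).res (inf_le_right : W p ≤ D'.O p.2))
    obtain ⟨y, hy, hy'⟩ := exists_unit hJ ((D.eB p.1).res (inf_le_left : W p ≤ D.O p.1))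
      ((D'.eB p.2).res (inf_le_right : W p ≤ D'.O p.2))
    obtain ⟨s, hs⟩ := exists_unit_val hx hy (EqY.of_mul hIY ((D'.eA p.2).res (inf_le_right : W p ≤ D'.O p.2))
      ((D.Y p.1).res inf_le_left) ((D'.Y p.2).res inf_le_right) hx' hy')
    exact ⟨x, y, s, hy, hx', hy', hs⟩
  choose x y s hy hA hB hs using h1
  obtain ⟨b, hb⟩ := glueOpen (IQ.J i) W hW
    (fun p => r (IQ.J i) (opnLE inf_le_left) (D.φ p.1) - r (IQ.J i) (opnLE inf_le_right) (D'.φ p.2) - m (α i) _ (s p)) (by
      intro p p'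
      let V := W p ⊓ W p'
      have k1 : V ≤ D.O p.1 := inf_le_left.trans inf_le_left
      have k2 : V ≤ D.O p'.1 := inf_le_right.trans inf_le_left
      have k1' : V ≤ D'.O p.2 := inf_le_left.trans inf_le_right
      have k2' : V ≤ D'.O p'.2 := inf_le_right.trans inf_le_right
      obtain ⟨t, ht⟩ := exists_sub (IsLift.opnLE (D.lift p.1) k1) (IsLift.opnLE (D.lift p'.1) k2)
      obtain ⟨t', ht'⟩ := exists_sub (IsLift.opnLE (D'.lift p.2) k1') (IsLift.opnLE (D'.lift p'.2) k2')
      have r1 := D.rel p.1 p'.1 V k1 k2 t ht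
      have r2 := D'.rel p.2 p'.2 V k1' k2' t' ht'
      have a1 := congrArg (res (inf_le_left : V ≤ W p)) (hA p)
      have a2 := congrArg (res (inf_le_right : V ≤ W p')) (hA p')
      have b1 := congrArg (res (inf_le_left : V ≤ W p)) (hB p)
      have b2 := congrArg (res (inf_le_right : V ≤ W p')) (hB p')
      have c1 := congrArg (res (inf_le_left : V ≤ W p)) (hs p)
      have c2 := congrArg (res (inf_le_right : V ≤ W p')) (hs p')
      rw [map_mul, res_res', res_res'] at a1 a2 b1 b2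
      rw [map_mul, ← val_opnLE] at c1 c2
      have hy1 : IsUnit (res (inf_le_left : V ≤ W p) (y p)) := (hy p).map _
      have hy2 : IsUnit (res (inf_le_right : V ≤ W p') (y p')) := (hy p').map _
      have key : val t * val (r (F i) (opnLE (inf_le_right : V ≤ W p')) (s p')) =
          val t' * val (r (F i) (opnLE (inf_le_left : V ≤ W p)) (s p)) := by
        have n1 := nonZeroDivisor_of_eqnOn hI (D'.eA p'.2) V k2'
        have n2 := nonZeroDivisor_of_eqnOn hJ (D'.eB p.2) V k1'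
        have n3 : res (inf_le_left : V ≤ W p) (y p) ∈ nonZeroDivisors Γ(Z.left, V) := hy1.mem_nonZeroDivisors
        have n4 : res (inf_le_right : V ≤ W p') (y p') ∈ nonZeroDivisors Γ(Z.left, V) := hy2.mem_nonZeroDivisors
        have n5 := mul_mem (mul_mem n3 n4) (mul_mem n1 n2)
        rw [← mul_cancel_right_mem_nonZeroDivisors n5]
        rw [← c1] at a1
        rw [← c2] at a2
        rw [a1, a2, b1, b2] at r1
        linear_combination -r1 + (val (r (F i) (opnLE (inf_le_left : V ≤ W p)) (s p)) *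
          res (inf_le_left : V ≤ W p) (y p) * res (inf_le_right : V ≤ W p') (y p')) * r2
      have key2 : t + r (F i) (opnLE (inf_le_right : V ≤ W p')) (s p') =
          t' + r (F i) (opnLE (inf_le_left : V ≤ W p)) (s p) := by
        apply val_injective
        rw [val_add, val_add, key]
      have key3 := congrArg (m (α i) _) key2
      rw [map_add, map_add, ← ht, ← ht'] at key3
      simp only [map_sub, r_r, ← m_r]
      rw [← sub_eq_zero] at key3 ⊢
      refine Eq.trans ?_ key3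
      have e1 : ∀ (V₁ V₂ V₃ : Z.left.Opens) (h : V₂ ≤ V₁) (h' : V₃ ≤ V₂), opnLE (Z := Z) h' ≫ opnLE h =
          opnLE (h'.trans h) := fun V₁ V₂ V₃ h h' => opnMap_comp _ _ _ _ _ _ _
      simp only [e1]
      abel)
  refine ⟨b, ?_⟩
  apply eq_of_openCover (Q i) W hW
  intro p
  rw [← m_r, hb, map_sub, map_sub, β_α, sub_zero, IsLift.opnLE (D.lift p.1) inf_le_left,
    IsLift.opnLE (D'.lift p.2) inf_le_right, map_sub]

end Groth.Agent.Etdl.H494

end
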