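import Groth.Agent.Etdl.H494.Opn
import Groth.Agent.Etdl.H494.H90Alg
import Groth.Agent.Etdl.H432.LS
import Groth.Agent.Sga4h.EtSpec

/-!
# Affine objects of the big fppf site

`g : Spec B ⟶ P`, for a `B`-algebra `R`: `sp g R`; `spMap g ψ`; `ev g h : R →+* O T` for `h : T ⟶ sp g R`;
`unr s : R` for `s ∈ F(sp g R)`; pairs of maps and `C ⊗[B] C`; the ideal of `Y`.
-/

set_option autoImplicit false
universe u
open CategoryTheory CategoryTheory.Limits AlgebraicGeometry Opposite TensorProduct

noncomputable section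

namespace Groth.Agent.Etdl.H494.Sp

open Groth.Agent.Etdl.H432.Sec Groth.Agent.Etdl.H432.Un

variable {P : Scheme.{u}} {B : Type u} [CommRing B] (g : Spec (CommRingCat.of B) ⟶ P)

/-- `Spec R` over `P`. -/
abbrev sp (R : Type u) [CommRing R] [Algebra B R] : Over P :=
  Over.mk (Spec.map (CommRingCat.ofHom (algebraMap B R)) ≫ g)

variable {R : Type u} [CommRing R] [Algebra B R] {R' : Type u} [CommRing R'] [Algebra B R']
  {R'' : Type u} [CommRing R''] [Algebra B R'']

/-- The map attached to an algebra map. -/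
def spMap (ψ : R →ₐ[B] R') : sp g R' ⟶ sp g R :=
  Over.homMk (Spec.map (CommRingCat.ofHom ψ.toRingHom)) (by
    have h : CommRingCat.ofHom (algebraMap B R) ≫ CommRingCat.ofHom ψ.toRingHom =
        CommRingCat.ofHom (algebraMap B R') := by
      rw [← CommRingCat.ofHom_comp]
      congr 1
      exact ψ.comp_algebraMap
    exact (Category.assoc _ _ _).symm.trans (congrArg (fun k => k ≫ g) ((Spec.map_comp _ _).symm.trans
      (congrArg Spec.map h))))

theorem spMap_left (ψ : R →ₐ[B] R') :
    (spMap g ψ).left = Spec.map (CommRingCat.ofHom ψ.toRingHom) := rfl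

theorem spMap_comp (ψ : R →ₐ[B] R') (ψ' : R' →ₐ[B] R'') :
    spMap g (ψ'.comp ψ) = spMap g ψ' ≫ spMap g ψ := by
  ext : 1
  exact (congrArg Spec.map (CommRingCat.ofHom_comp ψ.toRingHom ψ'.toRingHom)).trans (Spec.map_comp _ _)

/-- Elements of `R` as functions. -/
def toO (R : Type u) [CommRing R] [Algebra B R] : R →+* O (sp g R) :=
  (Scheme.ΓSpecIso (CommRingCat.of R)).inv.hom

/-- Functions as elements of `R`. -/
def ofO (R : Type u) [CommRing R] [Algebra B R] : O (sp g R) →+* R :=
  (Scheme.ΓSpecIso (CommRingCat.of R)).hom.hom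

theorem toO_ofO (x : O (sp g R)) : toO g R (ofO g R x) = x :=
  congr($((Scheme.ΓSpecIso (CommRingCat.of R)).hom_inv_id).hom x)

theorem ofO_toO (x : R) : ofO g R (toO g R x) = x :=
  congr($((Scheme.ΓSpecIso (CommRingCat.of R)).inv_hom_id).hom x)

/-- Evaluation of functions on `Spec R` along a map `T ⟶ Spec R`. -/
def ev {T : Over P} (h : T ⟶ sp g R) : R →+* O T := (ro h).comp (toO g R)

theorem ev_apply {T : Over P} (h : T ⟶ sp g R) (r : R) : ev g h r = ro h (toO g R r) := rfl

theorem ev_comp {T T' : Over P} (h : T ⟶ sp g R) (k : T' ⟶ T) (r : R) :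
    ev g (k ≫ h) r = ro k (ev g h r) := by
  rw [ev_apply, ev_apply, ro_ro]

theorem ev_spMap {T : Over P} (h : T ⟶ sp g R') (ψ : R →ₐ[B] R') (r : R) :
    ev g (h ≫ spMap g ψ) r = ev g h (ψ r) := by
  rw [ev_apply, ev_apply, ← ro_ro]
  congr 1
  exact congr($((Scheme.ΓSpecIso_inv_naturality (CommRingCat.ofHom ψ.toRingHom)).symm).hom r)

theorem hom_ext_ev {T : Over P} (h h' : T ⟶ sp g R) (e : ∀ r, ev g h r = ev g h' r) : h = h' := by
  ext : 1
  exact Groth.Agent.Sga4h.EtSpec.spec_hom_ext _ _ e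

/-- Maps to `sp g R` over a given map to `sp g B`. -/
theorem exists_hom {T : Over P} (τ : T ⟶ sp g B) (ρ : R →+* O T)
    (hρ : ∀ b, ρ (algebraMap B R b) = ev g τ b) : ∃ h : T ⟶ sp g R, ∀ r, ev g h r = ρ r := by
  obtain ⟨f, hf⟩ := Groth.Agent.Sga4h.EtSpec.exists_hom_spec T.left ρ
  have h1 : f ≫ Spec.map (CommRingCat.ofHom (algebraMap B R)) = τ.left := by
    apply Groth.Agent.Sga4h.EtSpec.spec_hom_ext
    intro b
    refine Eq.trans ?_ (hρ b)
    rw [← hf]
    rw [Scheme.Hom.comp_appTop]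
    have h2 := (Scheme.ΓSpecIso_inv_naturality (CommRingCat.ofHom (algebraMap B R))).symm
    exact congrArg (fun k => f.appTop.hom (k.hom b)) h2
  have h2 : τ.left ≫ (Spec.map (CommRingCat.ofHom (algebraMap B B)) ≫ g) = T.hom :=
    Over.w τ
  have h3 : CommRingCat.ofHom (algebraMap B B) = 𝟙 (CommRingCat.of B) := rfl
  have h4 : τ.left ≫ g = T.hom := by
    rw [← h2, h3, Spec.map_id]
    exact congrArg (fun k => τ.left ≫ k) (Category.id_comp g).symm
  refine ⟨Over.homMk f ?_, fun r => hf r⟩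
  exact (Category.assoc _ _ _).symm.trans ((congrArg (fun k => k ≫ g) h1).trans h4)

section

variable {C : Type u} [CommRing C] [Algebra B C]

/-- first inclusion -/
abbrev iL : C →ₐ[B] C ⊗[B] C := Algebra.TensorProduct.includeLeft
/-- second inclusion -/
abbrev iR : C →ₐ[B] C ⊗[B] C := Algebra.TensorProduct.includeRight

/-- Pairs of maps to `Spec C` over `Spec B` are maps to `Spec (C ⊗ C)`. -/
theorem exists_pair {T : Over P} (a b : T ⟶ sp g C)
    (hab : a ≫ spMap g (Algebra.ofId B C) = b ≫ spMap g (Algebra.ofId B C)) :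
    ∃ h : T ⟶ sp g (C ⊗[B] C), h ≫ spMap g iL = a ∧ h ≫ spMap g iR = b := by
  let τ : T ⟶ sp g B := a ≫ spMap g (Algebra.ofId B C)
  let _ : Algebra B Γ(T.left, ⊤) := (ev g τ).toAlgebra
  let a' : C →ₐ[B] Γ(T.left, ⊤) :=
    { ev g a with
      commutes' := fun r => (ev_spMap g a (Algebra.ofId B C) r).symm }
  let b' : C →ₐ[B] Γ(T.left, ⊤) :=
    { ev g b with
      commutes' := fun r => by
        refine ((ev_spMap g b (Algebra.ofId B C) r).symm).trans ?_
        rw [← hab]
        rfl }
  let ρ : C ⊗[B] C →ₐ[B] Γ(T.left, ⊤) := Algebra.TensorProduct.lift a' b' (fun _ _ => Commute.all _ _)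
  obtain ⟨h, hh⟩ := exists_hom g τ ρ.toRingHom (fun b => ρ.commutes b)
  refine ⟨h, ?_, ?_⟩
  · apply hom_ext_ev
    intro r
    rw [ev_spMap, hh]
    change ρ (r ⊗ₜ 1) = a' r
    rw [Algebra.TensorProduct.lift_tmul, map_one, mul_one]
  · apply hom_ext_ev
    intro r
    rw [ev_spMap, hh]
    change ρ (1 ⊗ₜ r) = b' r
    rw [Algebra.TensorProduct.lift_tmul, map_one, one_mul]

end

section Un

variable {Y : Scheme.{u}} {i : Y ⟶ P}

/-- The function of `R` of a section of `F`. -/
def unr (s : Γs (F i) (sp g R)) : R := ofO g R (un i s)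

theorem toO_unr (s : Γs (F i) (sp g R)) : toO g R (unr g s) = un i s := toO_ofO g _

theorem ev_unr {T : Over P} (h : T ⟶ sp g R) (s : Γs (F i) (sp g R)) :
    ev g h (unr g s) = un i (r (F i) h s) := by
  rw [un_r, ev_apply, toO_unr]

theorem unr_map (ψ : R →ₐ[B] R') (s : Γs (F i) (sp g R)) : unr g (r (F i) (spMap g ψ) s) = ψ (unr g s) := by
  have h := ev_spMap g (𝟙 _) ψ (unr g s)
  rw [Category.id_comp, ev_unr, ev_apply, ro_id] at h
  rw [unr, h, ofO_toO]

theorem unr_add (s t : Γs (F i) (sp g R)) : unr g (s + t) = unr g s * unr g t := by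
  rw [unr, un_add, map_mul, unr, unr]

theorem isUnit_unr (s : Γs (F i) (sp g R)) : IsUnit (unr g s) := (isUnit_un s).map _

/-- The ideal of `Y`. -/
theorem exists_ideal (i : Y ⟶ P) [IsClosedImmersion i] : ∃ I : Ideal B, ∀ (R : Type u) [CommRing R] [Algebra B R]
    (x : R), tr i (sp g R) (toO g R x) = 0 ↔ x ∈ I.map (algebraMap B R) := by
  have hcl : IsClosedImmersion (pullback.fst g i) := inferInstance
  obtain ⟨I, e, he⟩ := (IsClosedImmersion.Spec_iff (R := CommRingCat.of B)).1 hcl
  refine ⟨I, fun R _ _ x => ⟨fun h => ?_, fun h => ?_⟩⟩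
  · -- `Spec (R / I R) ⟶ Spec R ×_P Y`
    let R₁ := R ⧸ I.map (algebraMap B R)
    let π : CommRingCat.of R ⟶ CommRingCat.of R₁ := CommRingCat.ofHom (Ideal.Quotient.mk _)
    let ψ : CommRingCat.of (B ⧸ I) ⟶ CommRingCat.of R₁ :=
      CommRingCat.ofHom (Ideal.Quotient.lift I ((Ideal.Quotient.mk (I.map (algebraMap B R))).comp (algebraMap B R))
        (fun b hb => Ideal.Quotient.eq_zero_iff_mem.2 (Ideal.mem_map_of_mem _ hb)))
    have hψ : Spec.map π ≫ Spec.map (CommRingCat.ofHom (algebraMap B R)) =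
        Spec.map ψ ≫ Spec.map (CommRingCat.ofHom (Ideal.Quotient.mk I)) := by
      rw [← Spec.map_comp, ← Spec.map_comp]
      rfl
    have he' : Spec.map (CommRingCat.ofHom (Ideal.Quotient.mk I)) = e.inv ≫ pullback.fst g i := by
      rw [he, Iso.inv_hom_id_assoc]
    let l : Spec (CommRingCat.of R₁) ⟶ pullback (sp g R).hom i :=
      pullback.lift (Spec.map π) (Spec.map ψ ≫ e.inv ≫ pullback.snd g i) (by
        change Spec.map π ≫ Spec.map (CommRingCat.ofHom (algebraMap B R)) ≫ g = _
        rw [reassoc_of% hψ, he', Category.assoc, Category.assoc, Category.assoc, pullback.condition])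
    have hl : l ≫ pullback.fst (sp g R).hom i = Spec.map π := pullback.lift_fst _ _ _
    have h1 : (Spec.map π).appTop.hom (toO g R x) = 0 := by
      have e1 : (l ≫ pullback.fst (sp g R).hom i).appTop.hom (toO g R x) = 0 := by
        rw [Scheme.Hom.comp_appTop]
        exact (congrArg l.appTop.hom h).trans (map_zero l.appTop.hom)
      rwa [hl] at e1
    have h2 : (Spec.map π).appTop.hom (toO g R x) =
        (Scheme.ΓSpecIso (CommRingCat.of R₁)).inv.hom (Ideal.Quotient.mk _ x) :=
      congr($((Scheme.ΓSpecIso_inv_naturality π).symm).hom x)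
    rw [h2] at h1
    have h4 := (ConcreteCategory.bijective_of_isIso (Scheme.ΓSpecIso (CommRingCat.of R₁)).inv).1
      (h1.trans (map_zero _).symm)
    exact Ideal.Quotient.eq_zero_iff_mem.1 h4
  · have hle : I.map (algebraMap B R) ≤ RingHom.ker ((tr i (sp g R)).comp (toO g R)) := by
      rw [Ideal.map_le_iff_le_comap]
      intro b hb
      rw [Ideal.mem_comap, RingHom.mem_ker, RingHom.comp_apply]
      have h1 : toO g R (algebraMap B R b) =
          (Spec.map (CommRingCat.ofHom (algebraMap B R))).appTop.hom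
            ((Scheme.ΓSpecIso (CommRingCat.of B)).inv.hom b) :=
        congr($((Scheme.ΓSpecIso_inv_naturality (CommRingCat.ofHom (algebraMap B R)))).hom b)
      let q : pullback (sp g R).hom i ⟶ pullback g i :=
        pullback.lift (pullback.fst (sp g R).hom i ≫ Spec.map (CommRingCat.ofHom (algebraMap B R)))
          (pullback.snd _ _) (by
            rw [Category.assoc]
            exact pullback.condition)
      have hq : pullback.fst (sp g R).hom i ≫ Spec.map (CommRingCat.ofHom (algebraMap B R)) =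
          q ≫ e.hom ≫ Spec.map (CommRingCat.ofHom (Ideal.Quotient.mk I)) := by
        rw [← he]
        exact (pullback.lift_fst _ _ _).symm
      have h2 : tr i (sp g R) ((Spec.map (CommRingCat.ofHom (algebraMap B R))).appTop.hom
            ((Scheme.ΓSpecIso (CommRingCat.of B)).inv.hom b)) =
          (pullback.fst (sp g R).hom i ≫ Spec.map (CommRingCat.ofHom (algebraMap B R))).appTop.hom
            ((Scheme.ΓSpecIso (CommRingCat.of B)).inv.hom b) := by
        rw [Scheme.Hom.comp_appTop]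
        rfl
      have h4 : (Spec.map (CommRingCat.ofHom (Ideal.Quotient.mk I))).appTop.hom
          ((Scheme.ΓSpecIso (CommRingCat.of B)).inv.hom b) = 0 := by
        have h3 := congr($((Scheme.ΓSpecIso_inv_naturality (CommRingCat.ofHom (Ideal.Quotient.mk I))).symm).hom b)
        refine h3.trans ?_
        have h5 : Ideal.Quotient.mk I b = 0 := Ideal.Quotient.eq_zero_iff_mem.2 hb
        exact (congrArg (Scheme.ΓSpecIso (CommRingCat.of (B ⧸ I))).inv.hom h5).trans (map_zero _)
      rw [h1, h2, hq, Scheme.Hom.comp_appTop, Scheme.Hom.comp_appTop]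
      change q.appTop.hom (e.hom.appTop.hom ((Spec.map (CommRingCat.ofHom (Ideal.Quotient.mk I))).appTop.hom
          ((Scheme.ΓSpecIso (CommRingCat.of B)).inv.hom b))) = 0
      rw [h4, map_zero, map_zero]
    exact hle h

end Un

end Groth.Agent.Etdl.H494.Sp

end
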